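import Cfsg.Agent.Lib.Big.Bender
import Cfsg.Agent.Lib.FT.GW.SC3Main
import Cfsg.Agent.Lib.FT.GW.PGL

/-!
Groups with abelian centralizers of involutions.
-/

set_option autoImplicit false

namespace Cfsg.Lib.Cor
open Subgroup Cfsg Cfsg.Lib Cfsg.Lib.FT Cfsg.Lib.GW Cfsg.Lib.Big

variable {G : Type*} [Group G]

/-- `A` is abelian, contains a four-group, and is the centralizer in `K` of each of its involutions -/
structure AbK (K A : Subgroup G) (t v : G) : Prop where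
  hf : Four t v
  ht : t ∈ A
  hv : v ∈ A
  le : A ≤ K
  comm : ∀ a ∈ A, A ≤ C1[a]
  cent : ∀ j ∈ A, orderOf j = 2 → K ⊓ C1[j] ≤ A

theorem exists_lift_two [Finite G] {G' : Type*} [Group G'] {f : G →* G'} (hk : Odd (Nat.card f.ker))
    {a : G} (h2 : orderOf (f a) = 2) : ∃ b ∈ zpowers a, orderOf b = 2 ∧ f b = f a := by
  have h0 := BSW.mul_self_of_orderOf_two h2
  obtain ⟨m, hm⟩ := odd_orderOf hk (x := a * a) (by rwa [MonoidHom.mem_ker, map_mul])
  have h3 : f (a ^ (2 * m + 1)) = f a := by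
    rw [map_pow, pow_succ, pow_mul, pow_two, h0, one_pow, one_mul]
  refine ⟨_, pow_mem (mem_zpowers a) _, BSW.orderOf_two_of_mul_self (fun e => ?_) ?_, h3⟩
  · rw [e, map_one] at h3
    exact BSW.ne_one_of_orderOf_two h2 h3.symm
  · rw [← (Commute.refl a).mul_pow, ← hm, pow_orderOf_eq_one]

theorem c1_map_two [Finite G] {G' : Type*} [Group G'] {f : G →* G'} (hs : Function.Surjective f)
    (hk : Odd (Nat.card f.ker)) {a : G} (h2 : orderOf a = 2) : C1[f a] = C1[a].map f :=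
  centralizer_singleton_map_of_ker_coprime f hs (Nat.coprime_two_right.2 hk)
    (isPGroup_zpowers_of_orderOf h2)

namespace AbK
variable {K A : Subgroup G} {t v : G}

theorem map [Finite G] (h : AbK K A t v) {G' : Type*} [Group G'] {f : G →* G'}
    (hs : Function.Surjective f) (hk : Odd (Nat.card f.ker)) (hK : f.ker ≤ K) :
    AbK (K.map f) (A.map f) (f t) (f v) := by
  have h1 := fun x => orderOf_map_of_ker_coprime f (Nat.coprime_two_right.2 hk) (x := x)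
  refine ⟨⟨h1 t h.hf.ht, h1 v h.hf.hv, fun e => not_mem_of_odd hk h.hf.hw ?_,
    by rw [← map_mul, h.hf.comm, map_mul]⟩, mem_map_of_mem f h.ht, mem_map_of_mem f h.hv,
    map_mono h.le, ?_, ?_⟩
  · rw [MonoidHom.mem_ker, map_mul, e, ← map_mul, h.hf.tt, map_one]
  · rintro _ ⟨a, ha, rfl⟩ _ ⟨b, hb, rfl⟩
    exact mem_c1.2 (by rw [← map_mul, mem_c1.1 (h.comm a ha hb), map_mul])
  · rintro _ ⟨a, ha, rfl⟩ h2 y ⟨h3, h4⟩
    obtain ⟨j, h5, h6, e⟩ := exists_lift_two hk h2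
    obtain ⟨c, h7, rfl⟩ := (c1_map_two hs hk h6).le (e ▸ h4 :)
    exact mem_map_of_mem f (h.cent j (zpowers_le.2 ha h5) h6
      ⟨(comap_map_eq_self hK).le h3, h7⟩)

theorem sub (h : AbK K A t v) {L : Subgroup G} (hL : L ≤ K) (ht : t ∈ L) (hv : v ∈ L) :
    AbK ⊤ (A.subgroupOf L) ⟨t, ht⟩ ⟨v, hv⟩ :=
  ⟨Four.subtype h.hf, h.ht, h.hv, le_top,
    fun a ha _ hb => mem_c1.2 (Subtype.ext (mem_c1.1 (h.comm a ha hb))), fun j hj h2 x hx =>
    h.cent j hj ((orderOf_coe j).trans h2) ⟨hL x.2, mem_c1.2 (congrArg Subtype.val (mem_c1.1 hx.2))⟩⟩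

variable [Finite G] (h : AbK ⊤ A t v)
include h

omit [Finite G] in
theorem c1_eq {j : G} (hj : j ∈ A) (h2 : orderOf j = 2) : C1[j] = A :=
  le_antisymm (fun _ hx => h.cent j hj h2 ⟨trivial, hx⟩) (h.comm j hj)

theorem exists_sylow : ∃ S : Sylow 2 G, four t v ≤ S ∧ (S : Subgroup G) ≤ A := by
  obtain ⟨S, hS⟩ := h.hf.isPGroup.exists_le_sylow
  obtain ⟨z, -, h1, h2⟩ := pg_exists_fixed_of_order_p S.isPGroup' S.isPGroup' le_normalizer
    fun e => h.hf.t_ne (mem_bot.1 (e ▸ hS (left_mem_four t v)))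
  exact ⟨S, hS, (le_c1_iff.2 h2).trans (h.c1_eq ((h.c1_eq h.ht h.hf.ht).le
    (centralizer_le_singleton (hS (left_mem_four t v)) h2)) h1).le⟩

theorem se (hns : ¬ Group.IsSolvable G) : IsStronglyEmbedded N[A] := by
  obtain ⟨S, h1, h2⟩ := h.exists_sylow
  have h3 := (sylow_two_index_odd S).of_dvd_nat (index_dvd_of_le h2)
  have h4 : ∀ j ∈ N[A], orderOf j = 2 → j ∈ A := fun j hj h4 => by
    obtain ⟨g, h5, h6⟩ := ((IsSylowIn.of_sylow_top S).mono (h2.trans le_normalizer) le_top).exists_conj_le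
      (isPGroup_zpowers_of_orderOf h4) (zpowers_le.2 hj)
    exact (mem_normalizer_iff.1 h5 j).2 (h2 (h6 (mem_map_of_mem _ (mem_zpowers j))))
  refine ⟨fun e => hns ?_, even_iff_two_dvd.2 (h.hf.ht ▸ Subgroup.orderOf_dvd_natCard _
    (le_normalizer h.ht)), fun g hg => odd_of_forall fun j hj h5 => hg ?_⟩
  · have := normalizer_eq_top_iff.1 e
    have := Group.isSolvable_of_comm fun a b : A => Subtype.ext (mem_c1.1 (h.comm b b.2 a.2))
    have := odd_order_solvable (G := G ⧸ A) h3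
    exact Group.isSolvable_of_ker_le_range A.subtype (QuotientGroup.mk' A) (by simp)
  · obtain ⟨i, h6, rfl⟩ := hj.2
    rw [← conj_eq_iff_mem_normalizer]
    have h7 := (sm_orderOf_conj g i).symm.trans h5
    exact (congrArg (g •ᶜ ·) (h.c1_eq (h4 i h6 h7) h7)).symm.trans
      ((c1_conj g i).symm.trans (h.c1_eq (h4 _ hj.1 h5) h5))

theorem simple [IsSimpleGroup G] (hG : ¬ IsMulCommutative G) : IsPG2 G ∧ OneClass G ∧
    ∀ a ∈ A, IsPGroup 2 (zpowers a) → a * a = 1 := by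
  obtain ⟨S, -, h2⟩ := h.exists_sylow
  have hc : IsMulCommutative (S : Subgroup G) :=
    ⟨⟨fun a b => Subtype.ext (mem_c1.1 (h.comm b (h2 b.2) (h2 a.2)))⟩⟩
  obtain ⟨n, h3, h4, ⟨k, -, h5⟩, ⟨h6, F, _, _, h7, h8⟩ | h6 | h6⟩ :=
    bender_suzuki' hG (h.se (simple_not_solvable hG)) S
  rotate_left
  · exact absurd hc h6.2.1
  · exact absurd hc h6.2.1
  refine ⟨⟨F, _, _, h7 ▸ Nat.pow_le_pow_right two_pos h3, Or.inl h8⟩, fun x y hx hy => ?_,
    fun a ha h9 => ?_⟩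
  · obtain ⟨g, hg⟩ := exists_conj_mem_sylow S (isPGroup_zpowers_of_orderOf hx)
    obtain ⟨g', hg'⟩ := exists_conj_mem_sylow S (isPGroup_zpowers_of_orderOf hy)
    obtain ⟨l, -, e⟩ := h5 _ (hg x (mem_zpowers x)) _ (hg' y (mem_zpowers y))
      ((sm_orderOf_conj g x).trans hx) ((sm_orderOf_conj g' y).trans hy)
    exact isConj_iff.2 ⟨g'⁻¹ * l⁻¹ * g, by
      rw [eq_comm, mul_inv_eq_iff_eq_mul, ← eq_inv_mul_iff_mul_eq] at e; rw [e]; group⟩
  · have h10 : a ∈ (S : Subgroup G) := ((IsSylowIn.of_sylow_top S).mono h2 le_top).le_of_normalizes h9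
      (zpowers_le.2 ha) ((h2.trans (h.comm a ha)).trans d1_centralizer_le) (mem_zpowers a)
    by_cases h11 : a = 1
    · simp [h11]
    have := Set.eq_of_subset_of_ncard_le (s := {x | x ∈ (S : Subgroup G) ∧ orderOf x = 2})
      (t := ((S : Subgroup G) : Set G) \ {1}) (fun x hx => ⟨hx.1, BSW.ne_one_of_orderOf_two hx.2⟩)
      (by rw [h4, Set.ncard_sdiff_singleton_of_mem (one_mem _), ← h6]; rfl)
    exact BSW.mul_self_of_orderOf_two (this.ge ⟨h10, h11⟩).2

theorem isSimple (hO : pPrimeCore 2 G = ⊥) (hns : ¬ Group.IsSolvable G) :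
    IsSimpleGroup G ∧ IsPGroup 2 A := by
  have h1 : ¬ PRankLE 2 1 G := fun e => by
    have := e _ h.hf.isMulCommutative fun a ha => (sq a).trans (h.hf.mul_self ha)
    rw [h.hf.card] at this
    omega
  obtain ⟨-, -, -, h2⟩ := bender_local hO h1 (h.se hns)
  have h3 : O[A] = ⊥ := eq_bot_iff.2 ((le_oc ((oc_le A).trans le_normalizer)
    (normalizer_le_normalizer_piCoreOf _ A) (odd_oc A)).trans (by
      rw [piCoreOf, piCore_compl_singleton, show pPrimeCore 2 _ = ⊥ from h2, Subgroup.map_bot]))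
  have h4 : IsPGroup 2 A := fun a => by
    obtain ⟨k, hk⟩ := exists_pow_coprime_orderOf (p := 2) a
    refine ⟨k, Subtype.ext (mem_bot.1 (h3.le (le_oc (zpowers_le.2 (a ^ 2 ^ k).2)
      ((h.comm _ (a ^ 2 ^ k).2).trans d1_centralizer_le) ?_ (mem_zpowers _))))⟩
    rwa [Nat.card_zpowers, orderOf_coe, ← Nat.coprime_two_right]
  obtain ⟨L, hn, hs, h5, -, h6, -⟩ := bender_normal hO h1 (h.se hns)
  have h7 : A ≤ L := fun a ha => by
    obtain ⟨k, hk⟩ := h4.exists_orderOf_eq_pow ⟨a, ha⟩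
    refine FT.mem_of_pow_mem_of_coprime ?_ (L.pow_index_mem a)
    rw [← orderOf_mk a ha, hk]
    exact (Nat.coprime_two_right.2 h6).pow_right k
  obtain rfl : L = ⊤ := eq_top_iff.2 fun g _ => by
    obtain ⟨l, hl⟩ := isConj_iff.1 (((h.sub le_top (h7 h.ht) (h7 h.hv)).simple h5).2.1 ⟨t, h7 h.ht⟩
      ⟨_, hn.conj_mem t (h7 h.ht) g⟩ ((orderOf_mk _ _).trans h.hf.ht)
      ((orderOf_mk _ _).trans ((sm_orderOf_conj g t).trans h.hf.ht)))
    replace hl : l * t * (l : G)⁻¹ = g * t * g⁻¹ := congrArg Subtype.val hl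
    refine (mul_mem_cancel_left (inv_mem l.2)).1 (h7 ((h.c1_eq h.ht h.hf.ht).le (mem_c1.2 ?_)))
    calc _ = (l : G)⁻¹ * (g * t * g⁻¹) * g := by group
      _ = _ := by rw [← hl]; group
  exact ⟨topEquiv.symm.isSimpleGroup, h4⟩

omit h in
theorem main (h : AbK K A t v) [K.Normal] (hO : pPrimeCore 2 G = ⊥) (hns : ¬ Group.IsSolvable G) {x : G}
    (hx : x * x = 1) (hK : ∀ g, g ∈ K ∨ g * x ∈ K) (hi : ∀ a ∈ A, x * a * x⁻¹ = a⁻¹) :
    ∃ (N : Subgroup G) (_ : N.Normal), Nat.card N ∣ 2 ∧ IsPG2 (G ⧸ N) := by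
  have h1 := h.sub le_rfl (h.le h.ht) (h.le h.hv)
  have h2 : K.index ∣ 2 := by
    by_cases h2 : x ∈ K
    · rw [index_eq_one.2 (eq_top_iff.2 fun g _ => (hK g).elim id (mul_mem_cancel_right h2).1)]
      decide
    · exact (index_eq_two_iff.2 ⟨x, fun g => by
        rcases hK g with e | e
        · exact Or.inr ⟨e, mt (mul_mem_cancel_left e).1 h2⟩
        · exact Or.inl ⟨e, fun e' => h2 ((mul_mem_cancel_left e').1 e)⟩⟩).dvd
  have h3 : ¬ Group.IsSolvable K := fun _ => by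
    have : Group.IsSolvable (G ⧸ K) := burnside_solvable_of_card_dvd (a := 1) (b := 0) Nat.prime_two
      Nat.prime_three h2
    exact hns (Group.isSolvable_of_ker_le_range K.subtype (QuotientGroup.mk' K) (by simp))
  obtain ⟨hs, h4⟩ := h1.isSimple ((map_eq_bot_iff_of_injective _ K.subtype_injective).1 (eq_bot_iff.2
    ((pPrimeCoreOf_le_pPrimeCore_of_isSubnormal (Normal.isSubnormal inferInstance)).trans hO.le))) h3
  have h5 : ¬ IsMulCommutative K := fun e => h3 (Group.isSolvable_of_comm e.is_comm.comm)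
  obtain ⟨h6, -, h7⟩ := h1.simple h5
  obtain ⟨S, -, h8⟩ := h1.exists_sylow
  obtain ⟨k, hk⟩ := pg_inner_of_fixes_abelian_sylow h5 (h1.hf.ht ▸ orderOf_dvd_natCard _) S
    ⟨⟨fun a b => Subtype.ext (mem_c1.1 (h1.comm b (h8 b.2) (h8 a.2)))⟩⟩ (MulAut.conjNormal x) (k := 1)
    (by rw [pow_one, ← map_pow, sq, hx, map_one]) fun s hs => Subtype.ext ((hi s (h8 hs)).trans
      (inv_eq_of_mul_eq_one_right (congrArg Subtype.val
        (h7 s (h8 hs) (h4.to_le (zpowers_le.2 (h8 hs)))))))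
  have h9 : (k : G)⁻¹ * x ∈ C[K] := mem_centralizer_iff.2 fun y hy => by
    have : x * y * x⁻¹ = k * y * (k : G)⁻¹ := congrArg Subtype.val (hk ⟨y, hy⟩)
    calc _ = (k : G)⁻¹ * (k * y * (k : G)⁻¹) * x := by group
      _ = _ := by rw [← this]; group
  have h10 : K.IsComplement' C[K] := isComplement'_of_disjoint_and_mul_eq_univ (by
    rw [disjoint_iff, inf_comm, ← subgroupOf_map_subtype, ← center_eq_subgroupOf_centralizer,
      pg_center_eq_bot_of_simple h5, Subgroup.map_bot]) (Set.eq_univ_of_forall fun g => by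
    rcases hK g with e | e
    · exact ⟨g, e, 1, one_mem _, mul_one g⟩
    · exact ⟨g * x * k, mul_mem e k.2, _, h9, by simp [mul_assoc, hx]⟩)
  exact ⟨_, inferInstance, h10.symm.index_eq_card ▸ h2, h6.of_equiv h10.QuotientMulEquiv.symm⟩

end AbK

end Cfsg.Lib.Cor
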