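import Cfsg.Agent.Lib.Cor.Tools8

/-! `π`-homogeneous groups: reduction to a simple minimal counterexample -/

set_option autoImplicit false

namespace Cfsg.Lib.Big
open Subgroup Cfsg.Lib Cfsg.Lib.FT

universe u

section
variable {G : Type*} [Group G] {π ρ : Set ℕ}

/-- `K` has a normal Hall `ρ`-subgroup -/
def Cl (ρ : Set ℕ) (K : Subgroup G) : Prop := ∃ H, IsPiHallOf ρ H K ∧ K ≤ N[H]

theorem Cl.map {K : Subgroup G} (h : Cl ρ K) {G' : Type*} [Group G'] (f : G →* G') : Cl ρ (K.map f) :=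
  let ⟨H, h1, h2⟩ := h; ⟨H.map f, h1.map f, (map_mono h2).trans (le_normalizer_map f)⟩

theorem Cl.mono {K L : Subgroup G} (h : Cl ρ K) (hle : L ≤ K) : Cl ρ L :=
  let ⟨H, h1, h2⟩ := h
  ⟨H ⊓ L, h1.inf_of_normal' h2 hle, le_normalizer_inf (hle.trans h2) le_normalizer⟩

theorem cl_of_isPi {K : Subgroup G} (h : IsPiSubgroup ρ K) : Cl ρ K := ⟨K, isPiHallOf_self h, le_normalizer⟩

theorem Cl.hall [Finite G] {K : Subgroup G} (h : Cl ρ K) : IsPiHallOf ρ (piCoreOf ρ K) K :=
  isPiHallOf_piCoreOf_iff.2 h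

theorem Cl.of_map [Finite G] {G' : Type*} [Group G'] [Finite G'] {f : G →* G'} (hf : Function.Injective f)
    {K : Subgroup G} (h : Cl ρ (K.map f)) : Cl ρ K := by
  have h1 := h.hall
  rw [piCoreOf_map_of_injective f hf, isPiHallOf_map_iff_of_injective hf] at h1
  exact isPiHallOf_piCoreOf_iff.1 h1

theorem Cl.mem [Finite G] {K : Subgroup G} (h : Cl ρ K) {x : G} (hx : x ∈ K) (ho : PiNat ρ (orderOf x)) :
    x ∈ piCoreOf ρ K := h.hall.mem_of_normal (le_normalizer_piCoreOf _ _) hx ho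

theorem Cl.le [Finite G] {K L : Subgroup G} (h : Cl ρ K) (hle : L ≤ K) (hL : IsPiSubgroup ρ L) :
    L ≤ piCoreOf ρ K := h.hall.le_of_normal (le_normalizer_piCoreOf _ _) hL hle

/-- all `π`-subgroups are 2-closed -/
def TwoCl (π : Set ℕ) (G : Type*) [Group G] : Prop := ∀ H : Subgroup G, IsPiSubgroup π H → Cl {2} H

/-- `π`-homogeneous -/
def Homog (π : Set ℕ) (G : Type*) [Group G] : Prop :=
  ∀ H : Subgroup G, IsPiSubgroup π H → ∀ x : G, PiNat πᶜ (orderOf x) → x ∈ N[H] → x ∈ C[H]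

variable [Finite G] {G' : Type*} [Group G'] [Finite G']

theorem TwoCl.of_inj (h : TwoCl π G') {f : G →* G'} (hf : Function.Injective f) : TwoCl π G :=
  fun H hH => (h _ (hH.map f)).of_map hf

omit [Finite G] [Finite G'] in
theorem Homog.of_inj (h : Homog π G') {f : G →* G'} (hf : Function.Injective f) : Homog π G :=
  fun H hH x hx hn => by
    have h1 := h _ (hH.map f) (f x) (by rwa [orderOf_injective f hf]) (le_normalizer_map f ⟨x, hn, rfl⟩)
    exact mem_centralizer_iff.2 fun y hy => hf (by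
      rw [map_mul, map_mul]; exact mem_centralizer_iff.1 h1 _ ⟨y, hy, rfl⟩)

omit [Finite G'] in
theorem TwoCl.of_surj_pi (h : TwoCl π G) {f : G →* G'} (hf : Function.Surjective f)
    (hk : IsPiSubgroup π f.ker) : TwoCl π G' := fun H hH => by
  have := (h _ (hH.comap f hk)).map f
  rwa [map_comap_eq_self_of_surjective hf] at this

omit [Finite G'] in
theorem Homog.of_surj_pi (h : Homog π G) {f : G →* G'} (hf : Function.Surjective f)
    (hk : IsPiSubgroup π f.ker) : Homog π G' := fun H hH y hy hn => by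
  obtain ⟨x, rfl⟩ := hf y
  obtain ⟨a, b, ha, hb, e, h1, h2⟩ := exists_piPart π x
  have ha1 : f a = 1 := by
    rw [← orderOf_eq_one_iff]
    refine PiNat.eq_one (h1.of_dvd (orderOf_map_dvd f a)) (hy.of_dvd (orderOf_dvd_of_mem_zpowers ?_))
    rw [← MonoidHom.map_zpowers]; exact mem_map_of_mem f ha
  have hb1 : f b = f x := by rw [← e, map_mul, ha1, one_mul]
  have h3 := h _ (hH.comap f hk) b h2 (le_normalizer_comap f (show f b ∈ N[H] by rwa [hb1]))
  rw [← hb1]
  refine mem_centralizer_iff.2 fun z hz => ?_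
  obtain ⟨w, rfl⟩ := hf z
  rw [← map_mul, ← map_mul, mem_centralizer_iff.1 h3 w hz]

omit [Finite G'] in
theorem exists_lift_of_ker_compl {f : G →* G'} (hf : Function.Surjective f) (hk : IsPiSubgroup πᶜ f.ker)
    {H : Subgroup G'} (hH : IsPiSubgroup π H) :
    ∃ A : Subgroup G, IsComplIn A f.ker (H.comap f) ∧ IsPiSubgroup π A ∧ A.map f = H := by
  have hi : f.ker.relIndex (H.comap f) = Nat.card H := by
    rw [← MonoidHom.comap_bot, relIndex_comap, map_comap_eq_self_of_surjective hf, relIndex_bot_left]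
  have h1 : IsPiHallOf πᶜ f.ker (H.comap f) :=
    IsPiHallOf.mk' (ker_le_comap f H) hk (by rw [hi, compl_compl]; exact hH)
  obtain ⟨A, hA⟩ := exists_isComplIn_of_isPiHallOf h1 (by rw [normalizer_eq_top]; exact le_top)
  refine ⟨A, hA, ?_, ?_⟩
  · have := (hA.symm.isPiHallOf_compl h1).isPi
    rwa [compl_compl] at this
  · rw [hA.map_eq_of_le_ker f le_rfl, map_comap_eq_self_of_surjective hf]

omit [Finite G'] in
theorem TwoCl.of_surj_compl (h : TwoCl π G) {f : G →* G'} (hf : Function.Surjective f)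
    (hk : IsPiSubgroup πᶜ f.ker) : TwoCl π G' := fun H hH => by
  obtain ⟨A, -, h1, rfl⟩ := exists_lift_of_ker_compl hf hk hH
  exact (h _ h1).map f

omit [Finite G'] in
theorem Homog.of_surj_compl (h : Homog π G) (h2 : 2 ∈ π) {f : G →* G'} (hf : Function.Surjective f)
    (hk : IsPiSubgroup πᶜ f.ker) : Homog π G' := fun H hH y hy hn => by
  obtain ⟨A, -, h1, rfl⟩ := exists_lift_of_ker_compl hf hk hH
  have h3 := bg1_14a f (H := ⊤) (T := A) le_top (by
    rw [top_inf_eq]
    exact h1.coprimeAct hk (by rw [normalizer_eq_top]; exact le_top)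
      (Or.inr (isSolvable_of_not_two_dvd (hk.not_dvd Nat.prime_two (by simpa using h2)))))
  obtain ⟨x, hx, rfl⟩ : y ∈ (⊤ ⊓ N[A]).map f := by
    rw [← h3]
    exact ⟨let ⟨x, e⟩ := hf y; ⟨x, mem_top x, e⟩, hn⟩
  have h4 := h A h1 x (((isPiSubgroup_zpowers.2 hy).comap f hk).orderOf
    (show x ∈ (zpowers (f x)).comap f from mem_zpowers _)) hx.2
  refine mem_centralizer_iff.2 ?_
  rintro _ ⟨w, hw, rfl⟩
  rw [← map_mul, ← map_mul, mem_centralizer_iff.1 h4 w hw]

omit [Finite G'] in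
theorem cl_of_surj_compl {f : G →* G'} (hf : Function.Surjective f) (hk : IsPiSubgroup ρ f.ker)
    (h : Cl ρ (⊤ : Subgroup G')) : Cl ρ (⊤ : Subgroup G) := by
  obtain ⟨K, h1, h2⟩ := h
  refine ⟨K.comap f, IsPiHallOf.mk' le_top (h1.isPi.comap f hk) ?_, ?_⟩
  · rw [relIndex_top_right, index_comap_of_surjective _ hf, ← relIndex_top_right]
    exact h1.relIndex_compl
  · exact fun x _ => le_normalizer_comap f (h2 (mem_top (f x)))

omit [Finite G'] in
theorem cl_of_surj_pi (hh : Homog π G) {f : G →* G'} (hf : Function.Surjective f)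
    (hk : IsPiSubgroup π f.ker) (h : Cl πᶜ (⊤ : Subgroup G')) : Cl πᶜ (⊤ : Subgroup G) := by
  obtain ⟨K, h1, h2⟩ := h
  obtain ⟨A, hA, h3, -⟩ := exists_lift_of_ker_compl (π := πᶜ) hf (by rwa [compl_compl]) h1.isPi
  have h4 : IsPiHallOf πᶜ A (K.comap f) := hA.isPiHallOf_of_isPi h3 (by rwa [compl_compl])
  have h5 : K.comap f ≤ N[A] := by
    rw [← hA.sup_eq]
    refine sup_le le_normalizer (le_trans ?_ (centralizer_le_normalizer _))
    rw [le_centralizer_iff]
    exact fun x hx => hh _ hk x (h3.orderOf hx) (by rw [normalizer_eq_top]; exact mem_top x)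
  refine ⟨A, h4.trans_relIndex le_top ?_, le_trans ?_ (h4.normalizer_le h5)⟩
  · rw [relIndex_top_right, index_comap_of_surjective _ hf, ← relIndex_top_right]
    exact h1.relIndex_compl
  · exact fun x _ => le_normalizer_comap f (h2 (mem_top (f x)))

end

/-- reduction to the simple case -/
theorem cl_of_simple_case {π : Set ℕ} (h2 : 2 ∈ π)
    (hs : ∀ (G : Type u) [Group G] [Finite G] [IsSimpleGroup G], ¬ IsMulCommutative G → TwoCl π G → Homog π G →
      (∀ L : Subgroup G, L ≠ ⊤ → Cl πᶜ L) → False) (n : ℕ) :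
    ∀ (G : Type u) [Group G] [Finite G], Nat.card G = n → TwoCl π G → Homog π G → Cl πᶜ (⊤ : Subgroup G) := by
  induction n using Nat.strong_induction_on with
  | _ n ih =>
  intro G _ _ hn ht hh
  have hsub : ∀ L : Subgroup G, L ≠ ⊤ → Cl πᶜ L := fun L hL => by
    have := (ih _ (by rw [← hn, ← card_top (G := G)]; exact pg_card_lt_of_lt (lt_top_iff_ne_top.2 hL)) L rfl (ht.of_inj L.subtype_injective)
      (hh.of_inj L.subtype_injective)).map L.subtype
    rwa [← MonoidHom.range_eq_map, range_subtype] at this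
  have hq : ∀ N : Subgroup G, N.Normal → N ≠ ⊥ → IsPiSubgroup π N ∨ IsPiSubgroup πᶜ N →
      Cl πᶜ (⊤ : Subgroup G) := fun N _ hN h => by
    have hf := QuotientGroup.mk'_surjective N
    have hlt : Nat.card (G ⧸ N) < n := hn ▸ pg_card_quotient_lt N hN
    rcases h with h | h
    · rw [← QuotientGroup.ker_mk' N] at h
      exact cl_of_surj_pi hh hf h (ih _ hlt _ rfl (ht.of_surj_pi hf h) (hh.of_surj_pi hf h))
    · rw [← QuotientGroup.ker_mk' N] at h
      exact cl_of_surj_compl hf h (ih _ hlt _ rfl (ht.of_surj_compl hf h) (hh.of_surj_compl h2 hf h))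
  by_cases hc : IsMulCommutative G
  · obtain ⟨H, hH⟩ := exists_isPiHallOf πᶜ (K := (⊤ : Subgroup G))
      (isSolvable_of_comm fun a b => Subtype.ext (hc.is_comm.comm _ _))
    refine ⟨H, hH, fun x _ => centralizer_le_normalizer _ (mem_centralizer_iff.2 fun y _ => hc.is_comm.comm _ _)⟩
  by_contra hcl
  have : Nontrivial G := by
    by_contra h
    rw [not_nontrivial_iff_subsingleton] at h
    exact hc ⟨⟨fun a b => Subsingleton.elim _ _⟩⟩
  have : IsSimpleGroup G := ⟨fun N _ => by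
    by_contra hN
    push Not at hN
    by_cases h : piCoreOf πᶜ N = ⊥
    · have h1 := (hsub N hN.2).hall
      rw [h1.eq_bot_iff, compl_compl] at h
      exact hcl (hq N inferInstance hN.1 (Or.inl h))
    · exact hcl (hq _ inferInstance h (Or.inr (isPiSubgroup_piCoreOf _ _)))⟩
  exact hs G hc ht hh hsub

end Cfsg.Lib.Big
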