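import Cfsg.Agent.Lib.Cor.PiRed
import Cfsg.Agent.Lib.Cor.PiMat
import Cfsg.Agent.Lib.Big.CoreKill
import Cfsg.Agent.Lib.Big.Rank2
import Cfsg.Agent.Lib.Quad.ZStarUse
import Cfsg.Agent.Lib.Bender.Basic

/-! `π`-homogeneous groups: the simple case -/

set_option autoImplicit false

namespace Cfsg.Lib.Big
open Subgroup Cfsg.Lib Cfsg.Lib.FT

variable {G : Type*} [Group G] [Finite G] {π : Set ℕ}

theorem TwoCl.no_inv (ht : TwoCl π G) (h2 : 2 ∈ π) {t x : G} (h1 : t * t = 1) (hx : x ≠ 1)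
    (hπ : PiNat π (orderOf x)) (ho : Odd (orderOf x)) (hi : t * x * t⁻¹ = x⁻¹) : False := by
  have ht2 : PiNat {2} (orderOf t) := (PiNat.prime_pow Nat.prime_two (Set.mem_singleton 2) 1).of_dvd
    (orderOf_dvd_of_pow_eq_one (by rw [pow_one, sq, h1]))
  have hn : zpowers t ≤ N[zpowers x] := by
    rw [zpowers_le, ← conj_eq_iff_mem_normalizer, conj_zpowers, hi, zpowers_inv]
  have h3 := ht _ ((isPiSubgroup_zpowers.2 (ht2.mono (by simpa using h2))).sup (isPiSubgroup_zpowers.2 hπ) hn)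
  have h4 := h3.mem (mem_sup_left (mem_zpowers t)) ht2
  have h5 := (mem_normalizer_iff.1 (le_normalizer_piCoreOf {2} _ (mem_sup_right (mem_zpowers x))) t).1 h4
  have h6 : x * x ∈ piCoreOf {2} (zpowers t ⊔ zpowers x) := by
    have e : x * t * x⁻¹ * t = x * x := by
      calc x * t * x⁻¹ * t = x * (t * x * t⁻¹)⁻¹ * (t * t) := by group
        _ = x * x := by rw [hi, h1]; group
    exact e ▸ mul_mem h5 h4
  refine hx ((isPiSubgroup_piCoreOf {2} _).eq_one (Bender.mem_of_odd_of_sq ho h6) ?_)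
  rw [PiNat.compl_singleton_iff Nat.prime_two]
  have := Nat.odd_iff.1 ho
  omega

theorem TwoCl.no_hasInv (ht : TwoCl π G) (h2 : 2 ∈ π) {r : ℕ} (hr : r.Prime) (hr2 : r ≠ 2) (hπ : r ∈ π)
    (h : HasInv G r) : False := by
  obtain ⟨t, x, h1, hx, h3, hi⟩ := h
  have hd := orderOf_dvd_of_pow_eq_one h3
  exact ht.no_inv h2 h1 hx (((PiNat.prime_iff hr).2 hπ).of_dvd hd) ((hr.odd_of_ne_two hr2).of_dvd_nat hd) hi

/-- structure of a `π'`-closed subgroup -/
theorem TwoCl.structure (ht : TwoCl π G) (h2 : 2 ∈ π) {L : Subgroup G} (hL : Cl πᶜ L) :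
    Group.IsSolvable L ∧ ∀ U, IsSylowIn 2 U L → L ≤ N[U ⊔ piCoreOf πᶜ L] := by
  obtain ⟨H, hH⟩ := exists_isComplIn_of_isPiHallOf hL.hall (le_normalizer_piCoreOf _ _)
  have h1 := hH.symm.isPiHallOf_compl hL.hall
  rw [compl_compl] at h1
  have h3 := ht H h1.isPi
  obtain ⟨K, hK⟩ := exists_isComplIn_of_isPiHallOf h3.hall (le_normalizer_piCoreOf _ _)
  have h4 := (hK.symm.isPiHallOf_compl h3.hall).isPi
  have hO : ¬ 2 ∣ Nat.card (piCoreOf πᶜ L) := not_dvd_card_piCoreOf Nat.prime_two (by simpa using h2) L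
  constructor
  · rw [← hH.sup_eq]
    refine isSolvable_sup_of_le_normalizer (hH.le_left.trans (le_normalizer_piCoreOf _ _)) ?_
      (isSolvable_of_not_two_dvd hO)
    rw [← hK.sup_eq]
    exact isSolvable_sup_of_le_normalizer (hK.le_left.trans (le_normalizer_piCoreOf _ _))
      (isSolvable_of_not_two_dvd (isPiSubgroup_compl_singleton_iff.1 h4))
      (isSolvable_of_isPGroup (isPGroup_piCoreOf_singleton 2 H))
  · intro U hU
    have h5 : IsSylowIn 2 (piCoreOf {2} H) L := h1.isSylowIn h2 (isPiHallOf_singleton_iff.1 h3.hall)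
    have h6 : L ≤ N[piCoreOf {2} H ⊔ piCoreOf πᶜ L] := by
      refine hH.le_of_le (fun x hx => Bender.mem_normalizer_sup (le_normalizer_piCoreOf _ _ hx)
        (le_normalizer_piCoreOf _ _ (hH.le_left hx))) (le_sup_right.trans le_normalizer)
    obtain ⟨k, hk, rfl⟩ := h5.exists_conj hU
    have := conj_eq_iff_mem_normalizer.2 (h6 hk)
    rw [conj_sup, conj_eq_iff_mem_normalizer.2 (le_normalizer_piCoreOf _ _ hk)] at this
    rwa [this]

theorem TwoCl.exists_conj_core (ht : TwoCl π G) (h2 : 2 ∈ π) {L U V : Subgroup G} (hL : Cl πᶜ L)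
    (hU : IsSylowIn 2 U L) (hV : IsPGroup 2 V) (hVL : V ≤ L) : ∃ c ∈ piCoreOf πᶜ L, c •ᶜ V ≤ U := by
  have h1 := (ht.structure h2 hL).2 U hU
  have hK : U ⊔ piCoreOf πᶜ L ≤ L := sup_le hU.le (piCoreOf_le _ _)
  have h3 : V ≤ U ⊔ piCoreOf πᶜ L := by
    obtain ⟨k, hk, h⟩ := hU.exists_conj_le hV hVL
    exact le_of_conj_le (h.trans le_sup_left) (h1 hk)
  obtain ⟨k, hk, h⟩ := (hU.mono le_sup_left hK).exists_conj_le hV h3
  obtain ⟨u, hu, c, hc, rfl⟩ := (mem_sup_of_le_normalizer' (hU.le.trans (le_normalizer_piCoreOf _ _))).1 hk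
  rw [← conj_conj] at h
  exact ⟨c, hc, le_of_conj_le h (le_normalizer hu)⟩

omit [Finite G] in
theorem Homog.le (hh : Homog π G) {H X : Subgroup G} (hH : IsPiSubgroup π H) (hX : IsPiSubgroup πᶜ X)
    (hn : X ≤ N[H]) : X ≤ C[H] := fun x hx => hh H hH x (hX.orderOf hx) (hn hx)

theorem normalizer_ne_top_of_two [IsSimpleGroup G] (hG : ¬ IsMulCommutative G) {T : Subgroup G}
    (hT : IsPGroup 2 T) (h1 : T ≠ ⊥) : N[T] ≠ ⊤ := fun h => by
  rcases (normalizer_eq_top_iff.1 h).eq_bot_or_eq_top with h | h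
  · exact h1 h
  · subst h
    exact not_isSolvable_of_simple hG (isSolvable_of_isPGroup (hT.of_equiv topEquiv))

section
variable [IsSimpleGroup G] (hG : ¬ IsMulCommutative G) (h2 : 2 ∈ π) (ht : TwoCl π G) (hh : Homog π G)
  (hp : ∀ L : Subgroup G, L ≠ ⊤ → Cl πᶜ L)
include hG h2 ht hh hp

theorem pi_exists_conj_centralizer {T U V : Subgroup G} (hT : IsPGroup 2 T) (h1 : T ≠ ⊥)
    (hU : IsSylowIn 2 U N[T]) (hV : IsPGroup 2 V) (hVL : V ≤ N[T]) : ∃ c ∈ C[T], c •ᶜ V ≤ U := by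
  obtain ⟨c, hc, h⟩ := ht.exists_conj_core h2 (hp _ (normalizer_ne_top_of_two hG hT h1)) hU hV hVL
  exact ⟨c, hh.le (isPiSubgroup_of_isPGroup hT h2) (isPiSubgroup_piCoreOf _ _) (piCoreOf_le _ _) hc, h⟩

omit hh in
theorem pi_rank_three (hr : ¬ PRankLE 2 2 G) : False := by
  have hc : ∀ t : G, orderOf t = 2 → IsPConstrained 2 C1[t] := fun t h => by
    refine isPConstrained_of_isSolvable (ht.structure h2 (hp _ fun e => ?_)).1
    have : t ∈ center G := mem_center_iff.2 fun g => mem_C1.1 (e ▸ mem_top g)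
    rw [pg_center_eq_bot_of_simple hG, mem_bot] at this
    simp [this] at h
  have hloc : ∀ T : Subgroup G, IsPGroup 2 T → T ≠ ⊥ → IsPiSubgroup π N[T] := fun T hT h1 => by
    have h3 := charTwo_local_of_centralizers hc (fun t h => core_eq_bot_of_solvable hG hr hc h) hT h1
    have h4 : piCoreOf {2} N[T] ≤ piCoreOf π N[T] := piCoreOf_mono (by simpa using h2) _
    have h5 : piCoreOf πᶜ N[T] ≤ piCoreOf {2} N[T] := fun x hx => by
      rw [piCoreOf_singleton] at h4 ⊢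
      refine ⟨⟨x, piCoreOf_le _ _ hx⟩, h3 (mem_centralizer_iff.2 fun y hy => Subtype.ext ?_), rfl⟩
      exact (mem_centralizer_iff.1 (piCoreOf_le_centralizer_compl π _ (h4 (mem_map_of_mem _ hy))) x hx).symm
    have h6 : piCoreOf πᶜ N[T] = ⊥ := by
      rw [eq_bot_iff, ← piCoreOf_inf_compl π N[T] N[T]]
      exact le_inf (h5.trans h4) le_rfl
    rwa [(hp _ (normalizer_ne_top_of_two hG hT h1)).hall.eq_bot_iff, compl_compl] at h6
  have hTI : ∀ P Q : Subgroup G, IsSylowIn 2 P ⊤ → IsSylowIn 2 Q ⊤ → P ⊓ Q ≠ ⊥ → P = Q := by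
    by_contra hn
    push Not at hn
    obtain ⟨⟨P, Q⟩, ⟨hP, hQ, h1, hne⟩, hmax⟩ := Set.Finite.exists_maximalFor
      (fun x : Subgroup G × Subgroup G => Nat.card ↥(x.1 ⊓ x.2))
      {x | IsSylowIn 2 x.1 ⊤ ∧ IsSylowIn 2 x.2 ⊤ ∧ x.1 ⊓ x.2 ≠ ⊥ ∧ x.1 ≠ x.2} (Set.toFinite _)
      (let ⟨P, Q, h⟩ := hn; ⟨(P, Q), h⟩)
    have hD : IsPGroup 2 ↥(P ⊓ Q) := hP.isPGroup.to_inf_left
    have hcl := ht _ (hloc _ hD h1)
    obtain ⟨R, hR, hle⟩ := exists_isSylowIn_ge (isPGroup_piCoreOf_singleton 2 N[P ⊓ Q]) le_top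
    have key : ∀ S, IsSylowIn 2 S ⊤ → P ⊓ Q < S → S = R := fun S hS hlt => by
      by_contra hSR
      have h3 := pg_lt_inf_normalizer hS.isPGroup hlt
      have h4 : S ⊓ N[P ⊓ Q] ≤ S ⊓ R := le_inf inf_le_left ((hcl.le inf_le_right
        (isPiSubgroup_singleton_iff.2 hS.isPGroup.to_inf_left)).trans hle)
      have h5 := pg_card_lt_of_lt (h3.trans_le h4)
      exact absurd (hmax (j := (S, R)) ⟨hS, hR, (bot_le.trans_lt (h3.trans_le h4)).ne', hSR⟩ h5.le) h5.not_ge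
    refine hne ((key P hP (lt_of_le_of_ne inf_le_left fun e => hne ?_)).trans
      (key Q hQ (lt_of_le_of_ne inf_le_right fun e => hne ?_)).symm)
    · exact (hP.maximal Q hQ.isPGroup le_top (inf_eq_left.1 e)).symm
    · exact hQ.maximal P hP.isPGroup le_top (inf_eq_right.1 e)
  have hmem : ∀ (u : G) (a : Sylow 2 G), u ∈ (a : Subgroup G) → u • a = a := fun u a h =>
    Sylow.smul_eq_iff_mem_normalizer.2 (le_normalizer h)
  have hse : Bender.SE G (Sylow 2 G) := ⟨fun u hu => ?_, fun u hu a b ha hb => ?_⟩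
  rotate_left
  · obtain ⟨a, ha⟩ := hu.isPGroup.exists_le_sylow
    exact ⟨a, hmem u a (ha (mem_zpowers u))⟩
  · have key : ∀ c : Sylow 2 G, u • c = c → u ∈ (c : Subgroup G) := fun c hc =>
      R2.mem_sylow_of_mem_normalizer c (Sylow.smul_eq_iff_mem_normalizer.1 hc) (k := 1) hu.sq
    refine Sylow.ext (hTI _ _ (IsSylowIn.of_sylow_top a) (IsSylowIn.of_sylow_top b) fun e => hu.1 ?_)
    rw [← mem_bot, ← e]; exact ⟨key a ha, key b hb⟩
  have htwo : ∀ a : Sylow 2 G, ∃ s s', s ∈ Bender.Sw ⊤ a a ∧ s' ∈ Bender.Sw ⊤ a a ∧ s ≠ s' := fun a => by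
    obtain ⟨E, hE, h3, h4⟩ := FT.IsSylowIn.exists_e8 (IsSylowIn.of_sylow_top a) (fun h => hr (pRankLE_top_iff.1 h))
    obtain ⟨s, hs, hs1⟩ := exists_mem_not_mem_of_card_lt (A := E) (B := ⊥) (by rw [card_bot]; omega)
    have hi : Bender.IsInv s := ⟨by simpa using hs1, by rw [← sq]; exact h3.2 s hs⟩
    obtain ⟨s', hs', hs1'⟩ := exists_mem_not_mem_of_card_lt (A := E) (B := zpowers s)
      (by rw [hi.card_zpowers]; omega)
    exact ⟨s, s', ⟨mem_top _, hi, hmem _ _ (hE hs)⟩, ⟨mem_top _, ⟨fun e => hs1' (e ▸ one_mem _),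
      by rw [← sq]; exact h3.2 s' hs'⟩, hmem _ _ (hE hs')⟩, fun e => hs1' (e ▸ mem_zpowers s)⟩
  obtain ⟨P, Q, hP, hQ, hne⟩ := exists_two_sylows (not_isSolvable_of_simple hG)
  obtain ⟨a, rfl⟩ := hP.exists_sylow_top
  obtain ⟨b, rfl⟩ := hQ.exists_sylow_top
  have hab : a ≠ b := fun e => hne (e ▸ rfl)
  obtain ⟨s, s', hs, hs', hss⟩ := htwo a
  obtain ⟨v, -, hv, -⟩ := htwo b
  obtain ⟨t, htw⟩ := hse.exists_Sw (Bender.mem_Dl hs) (Bender.mem_Dl hv)
  obtain ⟨k, hk, e⟩ := hse.exists_conj_inverted htw hab hs hs'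
  refine ht.no_inv h2 htw.2.1.2 (x := k) (fun e' => hss (by simpa [e'] using e)) ?_
    (hse.odd_orderOf hab hk.1.2.1 hk.1.2.2) hk.2
  exact (hloc _ a.isPGroup' (normalizer_sylow_ne_top hG hP).1).orderOf
    (Sylow.smul_eq_iff_mem_normalizer.1 hk.1.2.1)

/-- a 2-central involution is central in every Sylow subgroup containing it -/
theorem pi_central {z : G} (hz1 : z ≠ 1) {S : Subgroup G} (hS : IsSylowIn 2 S ⊤) (hc : S ≤ C1[z])
    {T : Subgroup G} (hT : IsSylowIn 2 T ⊤) (hzT : z ∈ T) : T ≤ C1[z] := by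
  by_contra hn
  obtain ⟨T, ⟨hT, hzT, hn⟩, hmax⟩ := Set.Finite.exists_maximalFor (fun T : Subgroup G => Nat.card ↥(T ⊓ C1[z]))
    {T | IsSylowIn 2 T ⊤ ∧ z ∈ T ∧ ¬ T ≤ C1[z]} (Set.toFinite _) ⟨T, hT, hzT, hn⟩
  have hD : IsPGroup 2 ↥(T ⊓ C1[z]) := hT.isPGroup.to_inf_left
  have hzD : z ∈ T ⊓ C1[z] := ⟨hzT, mem_C1_self z⟩
  have hlt : T ⊓ C1[z] < T := lt_of_le_of_ne inf_le_left fun e => hn (inf_eq_left.1 e)
  obtain ⟨R, hR, hDR⟩ := exists_isSylowIn_ge hD inf_le_right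
  have hlt' : T ⊓ C1[z] < R := lt_of_le_of_ne hDR fun e => by
    have := pg_card_lt_of_lt hlt
    rw [e, hR.card_eq_card (hS.mono hc le_top), hS.card_eq_card hT] at this
    exact lt_irrefl _ this
  obtain ⟨U, hU, hTU⟩ := exists_isSylowIn_ge (K := N[T ⊓ C1[z]]) hT.isPGroup.to_inf_left inf_le_right
  obtain ⟨c, hc', h⟩ := pi_exists_conj_centralizer hG h2 ht hh hp hD (fun e => hz1 (by rwa [e, mem_bot] at hzD))
    hU hR.isPGroup.to_inf_left inf_le_right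
  obtain ⟨T', hT', hUT⟩ := exists_isSylowIn_ge hU.isPGroup le_top
  have h3 := pg_lt_inf_normalizer hT.isPGroup hlt
  have hcz : c ∈ C1[z] := mem_C1.2 (mem_centralizer_iff.1 hc' z hzD).symm
  have h4 : c •ᶜ (R ⊓ N[T ⊓ C1[z]]) ≤ T' ⊓ C1[z] :=
    le_inf (h.trans hUT) (conj_le_of_mem (inf_le_left.trans hR.le) hcz)
  have h5 : Nat.card ↥(T ⊓ C1[z]) < Nat.card ↥(T' ⊓ C1[z]) :=
    (pg_card_lt_of_lt (pg_lt_inf_normalizer hR.isPGroup hlt')).trans_le
      ((card_conj c _).symm.le.trans (card_le_of_le h4))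
  have h6 : T' ≤ C1[z] := by
    by_contra h6
    exact absurd (hmax ⟨hT', hUT (hTU (h3.le hzD)), h6⟩ h5.le) h5.not_ge
  exact h3.not_ge (le_inf inf_le_left (hTU.trans (hUT.trans h6)))

theorem pi_rank_two (hr : PRankLE 2 2 G) : False := by
  obtain ⟨S⟩ := (inferInstance : Nonempty (Sylow 2 G))
  have hS := IsSylowIn.of_sylow_top S
  have hZ := pg_center_eq_bot_of_simple hG
  obtain ⟨z, hzS, hz, hzc⟩ := pg_exists_fixed_of_order_p (p := 2) S.isPGroup' S.isPGroup' le_normalizer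
    (normalizer_sylow_ne_top hG hS).1
  have hzi := Bender.isInv_iff_orderOf.2 hz
  have hzc' : (S : Subgroup G) ≤ C1[z] := le_C1_iff.2 hzc
  obtain ⟨g, hgS, hg⟩ : ∃ g : G, g * z * g⁻¹ ∈ (S : Subgroup G) ∧ g * z * g⁻¹ ≠ z := by
    by_contra h
    push Not at h
    exact Quad.not_isolated_of_simple hZ z (Quad.isolated_of_weaklyClosed S hz (fun s hs => mem_C1.1 (hzc' hs)) h)
  have hwc : (S : Subgroup G) ≤ C1[g * z * g⁻¹] :=
    pi_central hG h2 ht hh hp (hzi.conj g).1 (FT.IsSylowIn.conj_top hS g)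
      (by rw [← conj_centralizer_singleton]; exact map_mono hzc') hS hgS
  have h4 : R2.Cen4 (⟨z, hzS⟩ : (S : Subgroup G)) ⟨_, hgS⟩ :=
    R2.cen4_of_rank (R2.pRankLE_subgroup hr _) (Subtype.ext hzi.2) (Subtype.ext (hzi.conj g).2)
      (fun e => hzi.1 (congrArg Subtype.val e)) (fun e => (hzi.conj g).1 (congrArg Subtype.val e))
      (fun e => hg (congrArg Subtype.val e).symm) (fun b => Subtype.ext (mem_C1.1 (hzc' b.2)).symm)
      (fun b => Subtype.ext (mem_C1.1 (hwc b.2)).symm)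
  have hcen : ∀ u ∈ (S : Subgroup G), u * u = 1 → ∀ s ∈ (S : Subgroup G), s * u = u * s := fun u hu h s hs =>
    (congrArg Subtype.val (h4.cen ⟨u, hu⟩ (Subtype.ext h) ⟨s, hs⟩)).symm
  have h3 : 3 ∈ π := by
    by_contra h3
    refine Quad.not_isolated_of_simple hZ z (Quad.isolated_of_normalizer_fixed S hz hzS hcen fun n hn => ?_)
    obtain ⟨s, hs, a, ha, ho, rfl⟩ := R2.exists_sylow_mul_odd S hn
    obtain ⟨b, c, hb, hc, rfl, hbπ, hcπ⟩ := exists_piPart π a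
    have haN := zpowers_le.2 hn ha
    have hbN := zpowers_le.2 haN hb
    have h5 : c ∈ C1[z] := mem_C1.2 (mem_centralizer_iff.1
      (hh _ (isPiSubgroup_of_isPGroup S.isPGroup' h2) c hcπ (zpowers_le.2 haN hc)) z hzS).symm
    have h6 : b ∈ C1[z] := by
      by_contra h6
      have h7 := h4.aut_three (ho.of_dvd_nat (orderOf_dvd_of_mem_zpowers hb)) (R2.nAut_pow_orderOf hbN)
        (fun e => h6 (mem_C1.2 (by
          have := congrArg Subtype.val e
          rw [R2.nAut_coe] at this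
          exact mul_inv_eq_iff_eq_mul.1 this)))
      have h8 := congrArg Subtype.val h7
      simp only [R2.nAut_coe] at h8
      refine h6 (FT.mem_of_pow_mem_of_coprime (n := 3) ((Nat.Prime.coprime_iff_not_dvd Nat.prime_three).2
        fun h => h3 (hbπ 3 Nat.prime_three h)) (mem_C1.2 ?_))
      calc b ^ 3 * z = b * (b * (b * z * b⁻¹) * b⁻¹) * b⁻¹ * b ^ 3 := by simp only [pow_succ, pow_zero]; group
        _ = z * b ^ 3 := by rw [h8]
    rw [mem_C1.1 (mul_mem (hzc' hs) (mul_mem h6 h5)), mul_inv_cancel_right]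
  have hnc : ¬ IsCyclic (center (S : Subgroup G)) := fun h => by
    exact h4.zw (ci_invol_eq h (mem_center_iff.2 fun b => (h4.zc b).symm)
      (mem_center_iff.2 fun b => (h4.wc b).symm) (Bender.isInv_iff_orderOf.1 ⟨h4.z1, h4.zz⟩)
      (Bender.isInv_iff_orderOf.1 ⟨h4.w1, h4.ww⟩))
  rcases rank_two_central hG S hnc hr with h | ⟨F, _, _, hF, ⟨e⟩⟩
  · obtain ⟨q, hq, h5, F, _, _, rfl, ⟨e⟩⟩ := psl2_of_card_four hG S h
    by_cases hc : (3 : F) = 0
    · obtain ⟨r, t, d, U, hr, hr2, h6, h7, h8, h9, hU, hn, hc⟩ := psl2_char_three hc hq h5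
      have ht' := ht.of_inj e.symm.injective (f := e.symm.toMonoidHom)
      refine ht'.no_hasInv h2 hr hr2 ?_ ⟨t, d, h6, h7, h8, h9⟩
      by_contra hrπ
      exact hc (hh.of_inj e.symm.injective (f := e.symm.toMonoidHom) U (isPiSubgroup_of_isPGroup hU h3) d
        (((PiNat.prime_iff hr).2 hrπ).of_dvd (orderOf_dvd_of_pow_eq_one h8)) hn)
    · exact ht.no_hasInv h2 Nat.prime_three (by norm_num) h3
        ((psl2_hasInv_three (Nat.odd_iff.2 (by omega)) hc).of_equiv e)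
  · exact ht.no_hasInv h2 Nat.prime_three (by norm_num) h3 ((psu3_hasInv_three hF).of_equiv e)

theorem pi_simple_false : False := by
  by_cases hr : PRankLE 2 2 G
  · exact pi_rank_two hG h2 ht hh hp hr
  · exact pi_rank_three hG h2 ht hp hr

end

theorem cl_of_homog (h2 : 2 ∈ π) (ht : TwoCl π G) (hh : Homog π G) : Cl πᶜ (⊤ : Subgroup G) :=
  cl_of_simple_case h2 (fun _ _ _ _ hG ht hh hp => pi_simple_false hG h2 ht hh hp) _ G rfl ht hh

end Cfsg.Lib.Big
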