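import Cfsg.Statements.S0984
import Cfsg.Agent.Lib.FT.GW.Eight

set_option autoImplicit false

namespace Cfsg.Lib.Cor
open Subgroup Cfsg Cfsg.Lib Cfsg.Lib.FT Cfsg.Lib.GW

theorem s0984 {G : Type*} [Group G] [Finite G] [IsSimpleGroup G] (h : Nat.card G = 2520) : Nonempty (G ≃* alternatingGroup (Fin 7)) := by
  have hnc : ¬ IsMulCommutative G := sm_not_comm_of_not_prime (by rw [h]; norm_num)
  have hns : ¬ Group.IsSolvable G := fun _ => hnc ⟨⟨IsSimpleGroup.comm_iff_isSolvable.2 inferInstance⟩⟩
  have hO : pPrimeCore 2 G = ⊥ := (inferInstance : (pPrimeCore 2 G).Normal).eq_bot_or_eq_top.resolve_right fun e => by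
    have := not_dvd_card_pPrimeCore (p := 2) (G := G)
    rw [e, card_top, h] at this
    omega
  obtain ⟨S⟩ : Nonempty (Sylow 2 G) := inferInstance
  have h8 : Nat.card (S : Subgroup G) = 8 := by
    rw [S.card_eq_multiplicity, h, show 2520 = 2 ^ 3 * 315 from rfl,
      Nat.factorization_mul_apply_of_coprime (by norm_num), Nat.Prime.factorization_pow Nat.prime_two,
      Nat.factorization_eq_zero_of_not_dvd (by norm_num)]
    simp
  rcases dih2_or_comm hO hns (fun e => by
    rcases (inferInstance : (center G).Normal).eq_bot_or_eq_top with e' | e'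
    · rw [e', card_bot] at e; omega
    · rw [e', card_top] at e; omega) S h8 with hd | hc
  swap
  · exact isA7_of_e8 h S h8
  obtain ⟨L, hA, hs, -, hL⟩ := hd.exists_almS hO hns
  obtain rfl : L = ⊤ := hA.normal.eq_bot_or_eq_top.resolve_left fun e =>
    not_nontrivial_iff_subsingleton.2 (e ▸ inferInstance) hs.toNontrivial
  refine (hL.resolve_left fun h1 => ?_).of_equiv topEquiv
  obtain ⟨F, _, _, h4, h5, ⟨e⟩⟩ := h1.of_equiv topEquiv
  have h2 := two_mul_card_psl2 h4
  rw [← Nat.card_congr e.toEquiv, h] at h2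
  generalize Fintype.card F = q at h2
  have : q < 18 := by
    by_contra! h3
    have : 18 * (18 ^ 2 - 1) ≤ q * (q ^ 2 - 1) := by gcongr
    omega
  interval_cases q <;> omega

end Cfsg.Lib.Cor
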