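import Cfsg.Prelude.Def_Local
import Cfsg.Agent.Lib.Big.CoreKill

set_option autoImplicit false
open Cfsg

namespace Cfsg.Lib.Cor
open Subgroup Cfsg.Lib Cfsg.Lib.FT Cfsg.Lib.Big

theorem s1296 {G : Type*} [Group G] [Finite G] (heven : Even (Nat.card G)) (hO2 : ∀ N : Subgroup G, N.Normal → N.index ≠ 2) (hO : Cfsg.oddCore G = ⊥) : Cfsg.PRankLE 2 2 G ∨ Cfsg.IsComponentType G ∨ Cfsg.IsCharacteristicTwoType G := by
  by_cases hr : PRankLE 2 2 G
  · exact Or.inl hr
  by_cases hct : IsComponentType G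
  · exact Or.inr (Or.inl hct)
  have hc : ∀ t : G, orderOf t = 2 → IsPConstrained 2 (centralizer ({t} : Set G)) := fun t ht => by
    rw [isPConstrained_iff_pLayer_eq_bot, pLayer_eq_bot_iff_layer]
    by_contra h
    exact hct ⟨t, ht, hasComponent_iff_layer_ne_bot.2 h⟩
  exact Or.inr (Or.inr ⟨heven, fun T hT hne => charTwo_local_of_centralizers hc (fun t ht =>
    core_eq_bot_of_constrained hO (fun N h => hO2 N (normal_of_index_eq_two h) h) hr hc ht) hT hne⟩)

end Cfsg.Lib.Cor
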