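import Cfsg.Statements.S3099
import Cfsg.Agent.Lib.FT.GW.Cor

set_option autoImplicit false

namespace Cfsg.Lib.Cor
open Subgroup Cfsg Cfsg.Lib Cfsg.Lib.FT Cfsg.Lib.GW

theorem s3099 {X : Type*} [Group X] [Finite X] (hP : Group.IsPerfect X) (h1 : Cfsg.PRankLE 2 1 X) (h2 : Even (Nat.card X)) :
    (∃ (F : Type) (_ : Field F) (_ : Fintype F), Odd (Fintype.card F) ∧ 3 < Fintype.card F ∧
        Nonempty (X ⧸ Cfsg.oddCore X ≃* Matrix.SpecialLinearGroup (Fin 2) F)) ∨
      Cfsg.IsNonsplitDoubleCover (X ⧸ Cfsg.oddCore X) ↥(alternatingGroup (Fin 7)) := by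
  obtain ⟨S⟩ : Nonempty (Sylow 2 X) := inferInstance
  have hs := QuotientGroup.mk'_surjective (oddCore X)
  have hP' : commutator (X ⧸ oddCore X) = ⊤ := (hP.ofSurjective hs).commutator_eq_top
  have hns : ¬ Group.IsSolvable (X ⧸ oddCore X) := not_solvable_quotient_oddCore fun h => by
    have h3 := eq_bot_of_perfect_of_isSolvable (H := (⊤ : Subgroup X)) hP.commutator_eq_top inferInstance
    rw [← card_top, h3, card_bot] at h2
    exact absurd h2 (by decide)
  obtain ⟨e⟩ := sylow_equiv_map S hs (by simpa using odd_card_oddCore)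
  obtain ⟨h3, hd, hO, hns', -⟩ := rank_one pPrimeCore_quotient_pPrimeCore hns (S.mapSurjective hs)
    (uniq_of_equiv e (pg_unique_involution_of_rank_one S.isPGroup' fun A hA h => by
      have := h1 (A.map (Subgroup.subtype _)) (by have := hA.1; infer_instance) (by
        rintro _ ⟨a, ha, rfl⟩
        exact congrArg Subtype.val (hA.2 a ha))
      rw [card_map_of_injective (subtype_injective _), h] at this
      omega))
  obtain ⟨L, hA, -, -, hL⟩ := hd.exists_almS hO hns'
  have hs' := QuotientGroup.mk'_surjective (center (X ⧸ oddCore X))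
  have hL' : L = ⊤ := hL.elim (fun h => eq_top_iff.2 (((hP.ofSurjective hs).ofSurjective
    hs').commutator_eq_top.ge.trans (l2_commutator hA h))) (a7_top hA)
  subst hL'
  rcases hL with h | h
  · obtain ⟨F, _, _, h4, h5, ⟨e⟩⟩ := h.of_equiv topEquiv
    exact Or.inl ⟨F, _, _, h4, h5, hd.nonempty_sl2 hP' hs' (by simp) (by simpa using h3) h4 h5 e⟩
  · refine Or.inr ⟨h3, h.of_equiv topEquiv, fun K hK => index_ne_two_of_perfect hP' K ?_⟩
    rw [hK.index_eq_card, h3]

end Cfsg.Lib.Cor
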