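import Cfsg.Agent.Lib.R1.Main

set_option autoImplicit false

namespace Cfsg.Lib.Cor
open Subgroup Cfsg Cfsg.Lib Cfsg.Lib.FT Cfsg.Lib.GW Cfsg.Lib.R1

theorem l85_list {G : Type*} [Group G] (h : L85 G) :
    (∃ (n : ℕ) (F : Type) (_ : Field F) (_ : Fintype F), 2 ≤ n ∧ Fintype.card F = 2 ^ n ∧
        Nonempty (G ≃* Matrix.ProjectiveSpecialLinearGroup (Fin 2) F)) ∨
    (∃ (m : ℕ) (F : Type) (_ : Field F) (_ : Fintype F), 1 ≤ m ∧ Fintype.card F = 2 ^ (2 * m + 1) ∧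
        Nonempty (G ≃* ↥(Cfsg.Lie.Sz F (2 ^ (m + 1))))) ∨
    (∃ (n : ℕ) (F : Type) (_ : Field F) (_ : Fintype F), 2 ≤ n ∧ Fintype.card F = 4 ^ n ∧
        Nonempty (G ≃* Cfsg.PSU 3 F (2 ^ n))) ∨
    (∃ (F : Type) (_ : Field F) (_ : Fintype F), (Fintype.card F % 8 = 3 ∨ Fintype.card F % 8 = 5) ∧
        5 < Fintype.card F ∧ Nonempty (G ≃* Matrix.ProjectiveSpecialLinearGroup (Fin 2) F)) ∨
    Cfsg.IsJ1 G := by
  rcases h with (⟨n, h1, F, _, _, h2, e⟩ | ⟨n, h1, F, _, _, h2, e⟩ | ⟨n, h1, F, _, _, h2, e⟩) |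
    ⟨q, h1, h2, F, _, _, rfl, e⟩ | h
  · exact Or.inl ⟨n, F, _, _, h1, h2, e⟩
  · exact Or.inr (Or.inl ⟨n, F, _, _, h1, h2, e⟩)
  · exact Or.inr (Or.inr (Or.inl ⟨n, F, _, _, h1, by rw [h2, ← pow_mul, mul_comm, pow_mul]; rfl, e⟩))
  · exact Or.inr (Or.inr (Or.inr (Or.inl ⟨F, _, _, h1, h2, e⟩)))
  · exact Or.inr (Or.inr (Or.inr (Or.inr h)))

theorem s3185 {G : Type*} [Group G] [Finite G] [IsSimpleGroup G]
    (hG : ¬ IsMulCommutative G)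
    (h : ∀ S T : Sylow 2 G, S ≠ T →
      ((S : Subgroup G) ⊓ (T : Subgroup G) = ⊥ ∨
        ∃ z ∈ (S : Subgroup G) ⊓ (T : Subgroup G), orderOf z = 2 ∧
          ∃ U : Sylow 2 G, z ∈ (Subgroup.center ↥(U : Subgroup G)).map (U : Subgroup G).subtype) →
      Cfsg.PRankLE 2 1 ↥((S : Subgroup G) ⊓ (T : Subgroup G))) :
    (∃ (n : ℕ) (F : Type) (_ : Field F) (_ : Fintype F), 2 ≤ n ∧ Fintype.card F = 2 ^ n ∧
        Nonempty (G ≃* Matrix.ProjectiveSpecialLinearGroup (Fin 2) F)) ∨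
    (∃ (m : ℕ) (F : Type) (_ : Field F) (_ : Fintype F), 1 ≤ m ∧ Fintype.card F = 2 ^ (2 * m + 1) ∧
        Nonempty (G ≃* ↥(Cfsg.Lie.Sz F (2 ^ (m + 1))))) ∨
    (∃ (n : ℕ) (F : Type) (_ : Field F) (_ : Fintype F), 2 ≤ n ∧ Fintype.card F = 4 ^ n ∧
        Nonempty (G ≃* Cfsg.PSU 3 F (2 ^ n))) ∨
    (∃ (F : Type) (_ : Field F) (_ : Fintype F), (Fintype.card F % 8 = 3 ∨ Fintype.card F % 8 = 5) ∧
        5 < Fintype.card F ∧ Nonempty (G ≃* Matrix.ProjectiveSpecialLinearGroup (Fin 2) F)) ∨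
    Cfsg.IsJ1 G := by
  refine l85_list (R1c.simple hG fun S T hS hT z v ⟨U, hU, hz⟩ z1 h1 h2 v2 v1 vz hc => by_contra fun hne => ?_)
  obtain ⟨S, rfl⟩ := hS.exists_sylow_top
  obtain ⟨T, rfl⟩ := hT.exists_sylow_top
  obtain ⟨U, rfl⟩ := hU.exists_sylow_top
  have f : Four z v := ⟨ci_orderOf z1 hz.2, ci_orderOf v1 v2, vz, hc⟩
  exact not_pRankLE_of_le_card (four_le_iff.2 ⟨h1, h2⟩) ⟨f.isMulCommutative, fun x hx => by rw [sq, f.mul_self hx]⟩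
    f.card.ge (h S T (fun e => hne (by rw [e])) (Or.inr ⟨z, h1, f.ht, U, ⟨z, hz.1.1⟩,
      mem_center_iff.2 fun y => Subtype.ext (oz_comm hz y.2), rfl⟩))

end Cfsg.Lib.Cor
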