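import Mathlib.LinearAlgebra.Matrix.ProjectiveSpecialLinearGroup
import Cfsg.Prelude.Def_CaseTheorems
import Cfsg.Agent.Lib.Cor.Tools8

set_option autoImplicit false
open Cfsg

namespace Cfsg.Lib.Cor
open Subgroup Cfsg.Lib Cfsg.Lib.FT Cfsg.Lib.Big

theorem s3188 {G : Type*} [Group G] [Finite G]
    (S : Sylow 2 G) (hS : IsMulCommutative ↥(S : Subgroup G))
    (hC : ∀ t : G, orderOf t = 2 → Group.IsSolvable ↥(Subgroup.centralizer ({t} : Set G))) :
    Group.IsSolvable G ∨
      ∃ (F : Type) (_ : Field F) (_ : Fintype F),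
        (((Fintype.card F % 8 = 3 ∨ Fintype.card F % 8 = 5) ∧ 5 ≤ Fintype.card F) ∨
          (∃ n : ℕ, 2 ≤ n ∧ Fintype.card F = 2 ^ n)) ∧
        ∃ N : Subgroup (G ⧸ Cfsg.oddCore G), N.Normal ∧
          Nonempty (↥N ≃* Matrix.ProjectiveSpecialLinearGroup (Fin 2) F) ∧
          Subgroup.centralizer (N : Set (G ⧸ Cfsg.oddCore G)) = ⊥ := by
  by_cases hns : Group.IsSolvable G
  · exact Or.inl hns
  right
  have hf := QuotientGroup.mk'_surjective (oddCore G)
  have hns' : ¬ Group.IsSolvable (G ⧸ oddCore G) := fun h => by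
    have : Group.IsSolvable (oddCore G) := odd_order_solvable odd_card_oddCore
    exact hns (Group.isSolvable_of_ker_le_range (oddCore G).subtype (QuotientGroup.mk' (oddCore G)) (by simp))
  have hC' := isSolvable_C1_quotient hC (O := oddCore G) (by
    have := Nat.odd_iff.1 (odd_card_oddCore (G := G))
    omega)
  have h1 := (IsSylowIn.of_sylow_top S).map (QuotientGroup.mk' (oddCore G))
  rw [← MonoidHom.range_eq_map, MonoidHom.range_eq_top.2 hf] at h1
  have hab : ∀ P : Subgroup (G ⧸ oddCore G), IsPGroup 2 P → IsMulCommutative P := fun P hP => by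
    obtain ⟨k, -, hk⟩ := h1.exists_conj_le hP le_top
    have : IsMulCommutative ((S : Subgroup G).map (QuotientGroup.mk' (oddCore G))) :=
      map_isMulCommutative _ _
    exact isMulCommutative_conj_iff.1 (sft_comm_of_le this hk)
  obtain ⟨T⟩ := (inferInstance : Nonempty (Sylow 2 (G ⧸ oddCore G)))
  obtain ⟨L, hn, hs, hL, hc⟩ := exists_normal_simple pPrimeCore_quotient_pPrimeCore hns' T
    (hab _ T.isPGroup') hC'
  obtain ⟨P⟩ := (inferInstance : Nonempty (Sylow 2 L))
  have hP : IsMulCommutative (P : Subgroup L) := by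
    have := hab _ (P.isPGroup'.map L.subtype)
    refine ⟨⟨fun a b => Subtype.ext (Subtype.ext ?_)⟩⟩
    exact comm_of_isMulCommutative this (mem_map_of_mem L.subtype a.2) (mem_map_of_mem L.subtype b.2)
  obtain ⟨q, hq, F, _, _, rfl, e⟩ := psl2_of_abelian_solvable hL P hP fun t ht => by
    have h2 : Group.IsSolvable (C1[t].map L.subtype) := isSolvable_of_le (by
      rintro _ ⟨x, hx, rfl⟩
      exact mem_C1.2 (congrArg Subtype.val (mem_C1.1 hx))) (hC' t (by rw [orderOf_coe, ht]))
    exact Group.isSolvable_of_surjective (f := (C1[t].equivMapOfInjective _ L.subtype_injective).symm.toMonoidHom)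
      (MulEquiv.surjective _)
  exact ⟨F, _, _, hq, L, hn, e, hc⟩

end Cfsg.Lib.Cor
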