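import Cfsg.Agent.Lib.CZ.Main

set_option autoImplicit false

namespace Cfsg.Lib.Cor
open Subgroup Cfsg Cfsg.Lib Cfsg.Lib.FT Cfsg.Lib.GW

theorem s3252 {G : Type*} [Group G] [Finite G] (hG : ¬ Group.IsSolvable G)
    (A B : Subgroup G) (hA : IsCyclic ↥A) (hB : ∀ (q : ℕ) [Fact q.Prime] (Q : Sylow q ↥B), IsCyclic ↥(Q : Subgroup ↥B))
    (hAB : ∀ g : G, ∃ a ∈ A, ∃ b ∈ B, g = a * b)
    (R : Subgroup G) [hR : R.Normal] (hRs : Group.IsSolvable ↥R) (hRmax : ∀ N : Subgroup G, N.Normal → Group.IsSolvable ↥N → N ≤ R) :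
    ∃ (F : Type) (_ : Field F) (_ : Fintype F) (p : ℕ), p.Prime ∧ 3 < p ∧ Fintype.card F = p ∧
      Nonempty ((G ⧸ R) ≃* (GL (Fin 2) F ⧸ Subgroup.center (GL (Fin 2) F))) := by
  obtain rfl : R = solvRad G := le_antisymm (le_solvRad inferInstance hRs) (hRmax _ inferInstance inferInstance)
  have hns : ¬ Group.IsSolvable (G ⧸ solvRad G) := fun e => hG (isSolvable_of_normal_quotient _ hRs e)
  have : Nontrivial (G ⧸ solvRad G) := not_subsingleton_iff_nontrivial.1 fun e => hns inferInstance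
  obtain ⟨a, rfl⟩ := CZ.exists_gen hA
  have : IsZGroup B := ⟨fun q hq Q => have := Fact.mk hq; hB q Q⟩
  have : IsZGroup (B.map (QuotientGroup.mk' (solvRad G))) := .of_surjective (MonoidHom.subgroupMap_surjective _ B)
  have t := CZ.tz solvRad_quotient_solvRad (a := QuotientGroup.mk' _ a) (B := B.map (QuotientGroup.mk' (solvRad G))) fun g => by
    obtain ⟨g, rfl⟩ := QuotientGroup.mk_surjective g
    obtain ⟨_, ⟨k, rfl⟩, b, h, rfl⟩ := hAB g
    exact ⟨_, ⟨k, rfl⟩, _, ⟨b, h, rfl⟩, by simp⟩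
  obtain ⟨p, hp, h1, h2⟩ := t.pgl t.sh
  exact ⟨ZMod p, inferInstance, inferInstance, p, hp.out,
    not_le.1 fun e => hns (CZ.solv_of_card_le t.faith (by omega)), ZMod.card p, h2⟩

end Cfsg.Lib.Cor
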