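import Mathlib.GroupTheory.Sylow
import Mathlib.GroupTheory.Index
import Cfsg.Agent.Lib.Cor.PiSimple

set_option autoImplicit false
open Cfsg

namespace Cfsg.Lib.Cor
open Subgroup Cfsg.Lib Cfsg.Lib.FT Cfsg.Lib.Big

theorem s3258 {G : Type*} [Group G] [Finite G] (π : Set ℕ) (h2 : 2 ∈ π)
    (hcl : ∀ H : Subgroup G, (∀ p : ℕ, p.Prime → p ∣ Nat.card ↥H → p ∈ π) → ∀ P : Sylow 2 ↥H, (P : Subgroup ↥H).Normal) :
    (∃ K : Subgroup G, ∀ x : G, x ∈ K ↔ ∀ p : ℕ, p.Prime → p ∣ orderOf x → p ∉ π) ↔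
      (∀ H : Subgroup G, H ≠ ⊥ → (∀ p : ℕ, p.Prime → p ∣ Nat.card ↥H → p ∈ π) →
        ∀ p : ℕ, p.Prime → p ∣ (Subgroup.centralizer (H : Set G)).relIndex (Subgroup.normalizer (H : Set G)) → p ∈ π) := by
  have ht : TwoCl π G := fun H hH => by
    obtain ⟨P⟩ := (inferInstance : Nonempty (Sylow 2 H))
    have := hcl H hH P
    refine ⟨_, isPiHallOf_singleton_iff.2 (IsSylowIn.of_sylow P), ?_⟩
    have h1 := le_normalizer_map (H := (P : Subgroup H)) H.subtype
    rwa [normalizer_eq_top, ← MonoidHom.range_eq_map, range_subtype] at h1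
  constructor
  · rintro ⟨K, hK⟩ H - hH p hp hd
    by_contra hpπ
    have : Fact p.Prime := ⟨hp⟩
    obtain ⟨Q, hQ⟩ := exists_isSylowIn p N[H]
    refine (dvd_relIndex_iff_of_isSylowIn hQ (fun x hx => Bender.mem_normalizer_centralizer hx)).1 hd ?_
    have hKπ : IsPiSubgroup πᶜ K := isPiSubgroup_of_forall_orderOf fun x hx => (hK x).1 hx
    have hKn : K.Normal := ⟨fun x hx g => (hK _).2 (by
      rw [show orderOf (g * x * g⁻¹) = orderOf x from orderOf_injective (MulAut.conj g).toMonoidHom (MulAut.conj g).injective x]; exact (hK x).1 hx)⟩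
    have hQK : Q ≤ K := fun x hx => (hK x).2 ((isPiSubgroup_of_isPGroup (π := πᶜ) hQ.isPGroup hpπ).orderOf hx)
    rw [← commutator_eq_bot_iff_le_centralizer, eq_bot_iff, ← IsPiSubgroup.inf_eq_bot (π := π) hH hKπ]
    exact le_inf (le_normalizer_iff_commutator_le_right.1 hQ.le) ((commutator_le_left _ _).trans' (commutator_mono hQK le_rfl))
  · intro h
    have hh : Homog π G := fun H hH x hx hn => by
      by_cases h1 : H = ⊥
      · subst h1; simp [mem_centralizer_iff]
      have h3 : zpowers x ≤ C[H] ⊓ N[H] := le_of_relIndex_compl (isPiSubgroup_zpowers.2 hx) (zpowers_le.2 hn)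
        (le_normalizer_inf (fun x hx => Bender.mem_normalizer_centralizer hx) le_normalizer)
        (by rw [compl_compl, inf_relIndex_right]; exact h H h1 hH) inf_le_right
      exact (h3 (mem_zpowers x)).1
    have h1 := cl_of_homog h2 ht hh
    exact ⟨piCoreOf πᶜ ⊤, fun x => ⟨fun hx => (isPiSubgroup_piCoreOf _ _).orderOf hx,
      fun hx => h1.mem (mem_top x) hx⟩⟩

end Cfsg.Lib.Cor
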