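import Cfsg.Statements.S3280
import Cfsg.Agent.Lib.FT.GW.SC3Main
import Cfsg.Agent.S3225
import Cfsg.Agent.S3277

set_option autoImplicit false

namespace Cfsg.Lib.Cor
open Subgroup Cfsg Cfsg.Lib Cfsg.Lib.FT Cfsg.Lib.GW

theorem sc4_pgroup {P : Type*} [Group P] [Finite P] (hP : IsPGroup 2 P) {w : P} (hw : orderOf w = 4)
    (hC : C1[w] = zpowers w) (h4 : Nat.card P ≠ 4) (h8 : Nat.card P ≠ 8) :
    (∀ x y : P, orderOf x = 2 → orderOf y = 2 → x = y) ∨ ∃ M : Subgroup P, M.index = 2 ∧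
      (∀ y ∉ M, y * y ≠ 1) ∧ ∀ x ∈ M, x * x ≠ 1 → 4 < Nat.card C1[x] := by
  have hz1 : w * w ≠ 1 := fun e => by
    have := hw ▸ orderOf_dvd_of_pow_eq_one ((sq w).trans e)
    omega
  have hz2 : w * w * (w * w) = 1 := by simpa [hw, pow_succ, mul_assoc] using pow_orderOf_eq_one w
  have hw4 : Nat.card (zpowers w) = 4 := (Nat.card_zpowers w).trans hw
  have hz : w * w ∈ center P := by
    obtain ⟨z, -, h1, h2⟩ := pg_exists_central_of_order_p hP ⊤ fun e =>
      hz1 (mem_bot.1 (e ▸ mem_top _))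
    exact eq_of_mem_zpowers_of_mul_self (hC.le (mem_c1.2 (mem_center_iff.1 h2 w).symm))
      (mul_mem (mem_zpowers w) (mem_zpowers w)) (BSW.ne_one_of_orderOf_two h1) hz1
      (BSW.mul_self_of_orderOf_two h1) hz2 ▸ h2
  have hzc := mem_center_iff.1 hz
  have : (zpowers (w * w)).Normal := pg_normal_zpowers_of_mem_center hz
  let π := QuotientGroup.mk' (zpowers (w * w))
  have hπ : ∀ {g}, π g = 1 ↔ g = 1 ∨ g = w * w := (QuotientGroup.eq_one_iff _).trans (mem_zpowers_two hz2)
  have hs := QuotientGroup.mk'_surjective (zpowers (w * w))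
  have hw' : ∀ {g}, g ∈ zpowers w ↔ g = 1 ∨ g = w * w ∨ g = w ∨ g = w * w * w := by
    intro g
    classical
    rw [mem_zpowers_iff_mem_range_orderOf, hw]
    simp [Finset.range_add_one, pow_succ, or_comm, or_assoc, or_left_comm, eq_comm]
  have h1 : Nat.card P = Nat.card (P ⧸ zpowers (w * w)) * 2 := by
    rw [card_eq_card_quotient_mul_card_subgroup (zpowers (w * w)), Nat.card_zpowers,
      BSW.orderOf_two_of_mul_self hz1 hz2]
  have h2 : orderOf (π w) = 2 := BSW.orderOf_two_of_mul_self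
    (fun e => hz1 ((hπ.1 e).elim (fun e => by simp [e]) fun e => by simp [left_eq_mul.1 e])) (by rw [← map_mul, hπ]; simp)
  have h3 : Nat.card C1[π w] = 4 := by
    have h3 : C1[π w].comap π = N[zpowers w] := by
      ext g
      rw [mem_comap, mem_c1, ← mul_inv_eq_iff_eq_mul, ← mul_inv_eq_one, ← map_inv, ← map_inv,
        ← map_mul, ← map_mul, ← map_mul, hπ]
      refine ⟨fun h => mem_normalizer_of_map_conj_eq (eq_of_le_of_card_ge
        (conj_zpowers g w ▸ zpowers_le.2 (hw'.2 ?_)) (card_map_conj _ g).ge), fun h => ?_⟩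
      · rcases h with h | h <;> simp [eq_mul_of_mul_inv_eq h]
      · have h5 := (sm_orderOf_conj g w).trans hw
        rcases hw'.1 ((mem_normalizer_iff.1 h w).1 (mem_zpowers w)) with e | e | e | e <;> rw [e] at h5 ⊢
        · simp at h5
        · rw [BSW.orderOf_two_of_mul_self hz1 hz2] at h5; omega
        · simp
        · simp
    have h5 := sm_relIndex_centralizer_dvd (zpowers w)
    rw [IsCyclic.card_mulAut, hw4, sm_centralizer_zpowers, hC] at h5
    have h6 := relIndex_mul_card (le_normalizer : zpowers w ≤ _)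
    obtain ⟨n, -, h7, h9⟩ := exists_mem_normalizer_not_mem (hP.to_subgroup ⊤).isNilpotent
      (lt_top_iff_ne_top.2 fun e => h4 (card_top.symm.trans (e ▸ hw4)))
    rw [((Nat.dvd_prime Nat.prime_two).1 h5).resolve_left fun e => h9 (relIndex_eq_one.1 e h7),
      hw4] at h6
    have h10 := N[zpowers w].card_mul_index
    have h11 := C1[π w].card_mul_index
    rw [← h6, ← h3, index_comap_of_surjective _ hs, h1, ← h11] at h10
    have := Nat.pos_of_ne_zero C1[π w].index_ne_zero_of_finite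
    nlinarith
  obtain ⟨m, a, h5, h6, h7, h9, h10, -⟩ := Cfsg.Agent.S3224.aux (hP.to_quotient _) _ h2 h3 (by omega)
  obtain ⟨a, rfl⟩ := hs a
  rw [← index_comap_of_surjective _ hs] at h9
  have h11 : ∀ g ∈ (zpowers (π a)).comap π, g ∈ C1[w] → π g = 1 := fun g h1 h2 => by
    rcases hw'.1 (hC.le h2) with rfl | rfl | rfl | rfl
    · simp
    · exact hπ.2 (Or.inr rfl)
    · exact absurd h1 h10
    · exact absurd ((mul_mem_cancel_left (mul_self_mem_of_index_two h9 w)).1 h1) h10
  have h12 : (zpowers (π a)).comap π ≤ C1[a] := by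
    rintro g ⟨k, hk⟩
    have : π (g * (a ^ k)⁻¹) = 1 := by simpa [mul_inv_eq_one] using hk.symm
    refine (mul_mem_cancel_right (inv_mem (zpow_mem (self_mem_c1 a) k))).1 ?_
    rcases hπ.1 this with e | e <;> rw [e]
    exacts [one_mem _, mem_c1.2 (hzc a).symm]
  have h13 := (normal_of_index_eq_two h9).conj_mem a (mem_zpowers _) w
  obtain ⟨ε, h14, h15⟩ : ∃ ε, (ε = 1 ∨ ε = w * w) ∧ w * a * w⁻¹ = ε * a⁻¹ :=
    ⟨w * a * w⁻¹ * a, hπ.1 (h11 _ (mul_mem h13 (mem_zpowers _)) (mem_c1.2 (by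
      calc _ = a * (w * a * w⁻¹) * w := by rw [mem_c1.1 (h12 h13)]
        _ = a * (w * w) * (w⁻¹ * a) := by group
        _ = _ := by rw [hzc]; group))), by group⟩
  have h16 : ε ∈ center P ∧ ε * ε = 1 := by rcases h14 with rfl | rfl <;> simp [hz, hz2]
  have h17 : ∀ k : ℤ, w * a ^ k * w⁻¹ = ε ^ k * (a ^ k)⁻¹ := fun k => by
    rw [← conj_zpow, h15, Commute.mul_zpow (mem_center_iff.1 h16.1 _).symm, inv_zpow]
  have h18 : ∀ k : ℤ, ε ^ (2 * k) = 1 := fun k => by rw [zpow_mul, zpow_two, h16.2, one_zpow]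
  have h19 : w * w ∈ zpowers a := by
    have h19 : π (a ^ 2 ^ m * a ^ 2 ^ m) = 1 := by
      rw [← pow_add, ← mul_two, ← pow_succ, map_pow, ← h7, pow_orderOf_eq_one]
    refine (hπ.1 h19).elim (fun e => absurd (h11 (a ^ 2 ^ m) (pow_mem (mem_zpowers _) _)
      (mem_c1.2 (eq_mul_of_mul_inv_eq ?_).symm)) fun e => ?_)
      fun e => e ▸ mul_mem (pow_mem (mem_zpowers a) _) (pow_mem (mem_zpowers a) _)
    · obtain ⟨m, rfl⟩ := Nat.exists_eq_add_of_le' h5
      rw [← zpow_natCast, h17, zpow_natCast a, inv_eq_of_mul_eq_one_right e]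
      push_cast
      rw [pow_succ', h18, one_mul]
    · rw [map_pow, ← orderOf_dvd_iff_pow_eq_one, h7, Nat.pow_dvd_pow_iff_le_right one_lt_two] at e
      omega
  rw [← MonoidHom.map_zpowers, comap_map_eq, QuotientGroup.ker_mk', sup_eq_left.2 (zpowers_le.2 h19)]
    at h9 h13
  have h20 : w ∉ zpowers a := fun e => h10 (MonoidHom.map_zpowers π a ▸ mem_map_of_mem π e)
  have h21 : ∀ y ∉ zpowers a, ∃ k : ℤ, y = w * a ^ k ∧ y * y = ε ^ k * (w * w) := fun y hy => by
    obtain ⟨k, hk⟩ := mem_zpowers_iff.1 ((mul_mem_iff_of_index_two h9).2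
      (iff_of_false (mt inv_mem_iff.1 h20) hy))
    obtain rfl : y = w * a ^ k := by rw [hk]; group
    refine ⟨k, rfl, ?_⟩
    calc _ = w * a ^ k * w⁻¹ * (a ^ k * (w * w)) := by rw [hzc]; group
      _ = _ := by rw [h17]; group
  rcases h14 with rfl | rfl
  · have h22 : ∀ y, orderOf y = 2 → y ∈ zpowers a := fun y hy => by_contra fun e => by
      obtain ⟨k, -, hk⟩ := h21 y e
      rw [BSW.mul_self_of_orderOf_two hy, one_zpow, one_mul] at hk
      exact hz1 hk.symm
    exact Or.inl fun x y hx hy => eq_of_mem_zpowers_of_mul_self (h22 x hx) (h22 y hy)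
      (BSW.ne_one_of_orderOf_two hx) (BSW.ne_one_of_orderOf_two hy) (BSW.mul_self_of_orderOf_two hx)
      (BSW.mul_self_of_orderOf_two hy)
  have h22 := (zpowers a).card_mul_index
  have h23 : 2 ^ 1 ≤ 2 ^ m := Nat.pow_le_pow_right two_pos h5
  rw [h9, h1, h6, pow_add] at h22
  have h24 : w * a * (w * a) = 1 := by
    calc _ = w * a * w⁻¹ * (a * (w * w)) := by rw [hzc]; group
      _ = _ := by rw [h15, ← hz2]; group
  obtain ⟨M, h25, h26⟩ := pg_exists_coatom_ge (H := zpowers (w * a)) fun e =>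
    ((mem_zpowers_two h24).1 (e.ge (mem_top (w * w)))).elim hz1 fun e' =>
      h20 (mul_left_cancel e' ▸ mem_zpowers a)
  have h27 := pg_index_of_isCoatom hP h25
  have h28 : ∀ j : ℤ, a ^ (2 * j) ∈ M := fun j => by
    rw [zpow_mul, zpow_two]; exact zpow_mem (mul_self_mem_of_index_two h27 a) j
  replace h26 := h26 (mem_zpowers _)
  refine Or.inr ⟨M, h27, fun y hy e => hy ?_, fun x hx e => ?_⟩
  · by_cases h29 : y ∈ zpowers a
    · by_cases h30 : y = 1
      · exact h30 ▸ one_mem M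
      · exact eq_of_mem_zpowers_of_mul_self h19 h29 hz1 h30 hz2 e ▸ mul_self_mem_of_index_two h27 w
    obtain ⟨k, rfl, hk⟩ := h21 y h29
    obtain ⟨j, rfl | rfl⟩ := Int.even_or_odd' k
    · rw [e, h18, one_mul] at hk
      exact absurd hk.symm hz1
    · rw [zpow_add_one, ← (Commute.self_zpow a _).eq, ← mul_assoc]
      exact mul_mem h26 (h28 j)
  · by_cases h29 : x ∈ zpowers a
    · have := card_le_of_le (zpowers_le.2 (mem_c1_symm (zpowers_le.2 (self_mem_c1 a) h29)))
      omega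
    obtain ⟨k, rfl, hk⟩ := h21 x h29
    obtain ⟨j, rfl | rfl⟩ := Int.even_or_odd' k
    · have h30 := (mul_mem_cancel_right (h28 j)).1 hx
      have h31 := zpowers_le.2 ((mul_mem_cancel_left h30).1 h26)
      refine absurd (eq_top_iff.2 fun y _ => by_contra fun h32 => ?_) h25.1
      obtain ⟨k, rfl, -⟩ := h21 y fun e => h32 (h31 e)
      exact h32 (mul_mem h30 (h31 (zpow_mem (mem_zpowers a) k)))
    · rw [zpow_add_one (w * w), h18, one_mul, hz2] at hk
      exact absurd hk e

theorem s3280 {G : Type*} [Group G] [Finite G] [IsSimpleGroup G] (hG : ¬ IsCyclic G)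
    (w : G) (hw : Nat.card ↥(Subgroup.centralizer ({w} : Set G)) ≤ 4) :
    Nonempty (G ≃* ↥(alternatingGroup (Fin 5))) ∨ Nonempty (G ≃* ↥(alternatingGroup (Fin 6))) ∨
      Nonempty (G ≃* ↥(alternatingGroup (Fin 7))) ∨
      (∃ (F : Type) (_ : Field F) (_ : Fintype F), Fintype.card F = 7 ∧ Nonempty (G ≃* Matrix.ProjectiveSpecialLinearGroup (Fin 2) F)) := by
  have hnc := sm_not_comm_of_not_isCyclic hG
  have hw1 : w ≠ 1 := by
    rintro rfl
    rw [show C1[(1 : G)] = ⊤ by simp [eq_top_iff, SetLike.le_def, mem_c1], card_top] at hw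
    exact simple_not_solvable hnc (burnside_solvable_of_card_dvd (a := 2) (b := 1) Nat.prime_two
      Nat.prime_three (by have := Nat.card_pos (α := G); generalize Nat.card G = n at *; interval_cases n <;> omega))
  have h1 := zpowers_le.2 (self_mem_c1 w)
  have h2 := card_dvd_of_le h1
  have h3 : 1 < orderOf w := by
    have := orderOf_pos w
    have := mt orderOf_eq_one_iff.1 hw1
    omega
  have key : Dih2 G → IsA7 G ∨ (IsL2 G ∧ AlmS (⊤ : Subgroup G)) := fun hd =>
    (gorenstein_walter G hnc hd).symm.imp_right fun h => ⟨h, hd, inferInstance, by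
      rw [coe_top, centralizer_univ, pg_center_eq_bot_of_simple hnc]⟩
  have key' : ∀ t : G, Dih2 G → orderOf t = 2 → Nat.card C1[t] ∣ 8 → _ := fun t hd ht h8 =>
    (hd.small hnc ht h8).imp_right (·.imp_right fun h => Or.inr (a := Nonempty (G ≃* alternatingGroup (Fin 7)))
      (⟨ZMod 7, @ZMod.instField 7 ⟨by norm_num⟩, inferInstance, rfl, @h.2 _ (_) _ rfl⟩ :
        ∃ (F : Type) (_ : Field F) (_ : Fintype F), Fintype.card F = 7 ∧
          Nonempty (G ≃* Matrix.ProjectiveSpecialLinearGroup (Fin 2) F)))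
  rw [Nat.card_zpowers] at h2
  have h4 := Nat.le_of_dvd Nat.card_pos h2
  have hC : orderOf w ≠ 2 → C1[w] = zpowers w := fun h => (eq_of_le_of_card_ge h1 (by
    rw [Nat.card_zpowers]
    generalize orderOf w = n, Nat.card C1[w] = k at *
    interval_cases k <;> interval_cases n <;> omega)).symm
  obtain h5 | h5 | h5 : orderOf w = 2 ∨ orderOf w = 3 ∨ orderOf w = 4 := by omega
  · obtain ⟨v, hf⟩ := simple_exists_four hnc h5
    have h6 := eq_of_le_of_card_ge (hf.le_c.trans inf_le_left) (hf.card ▸ hw)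
    refine Or.inl (Cfsg.Agent.S3277.result w h5 (h6 ▸ hf.card) (fun c hc => (sq c).trans
      (hf.mul_self (h6.ge hc))) (sm_not_hasNormalPComplement hnc (h5 ▸ orderOf_dvd_natCard w))
      fun E hE h7 => ?_)
    rcases hE.eq_bot_or_eq_top with rfl | rfl
    · simp
    · exact absurd ⟨⟨fun a b => congrArg Subtype.val (h7.1.is_comm.comm ⟨a, trivial⟩ ⟨b, trivial⟩)⟩⟩ hnc
  · obtain ⟨hd, t, ht, h8⟩ := sc3_main hnc h5 (hC (by omega))
    exact key' t hd ht h8
  replace hC := hC (by omega)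
  have hz : w * w * (w * w) = 1 := by simpa [h5, pow_succ, mul_assoc] using pow_orderOf_eq_one w
  have hz1 : w * w ≠ 1 := fun e => by
    have := h5 ▸ orderOf_dvd_of_pow_eq_one ((sq w).trans e)
    omega
  have hz2 := BSW.orderOf_two_of_mul_self hz1 hz
  obtain ⟨S, hS⟩ := (isPGroup_zpowers_of_pow
    (show w ^ 2 ^ 2 = 1 from (h5 ▸ pow_orderOf_eq_one w :))).exists_le_sylow
  have h6 := hS (mem_zpowers w)
  have h7 : C1[(⟨w, h6⟩ : (S : Subgroup G))] = zpowers ⟨w, h6⟩ := by
    refine le_antisymm (fun x hx => ?_) (zpowers_le.2 (self_mem_c1 _))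
    obtain ⟨k, hk⟩ := hC.le (mem_c1.2 (congrArg Subtype.val (mem_c1.1 hx)))
    exact ⟨k, Subtype.ext hk⟩
  have hO := simple_pPrimeCore hnc
  have hns := simple_not_solvable hnc
  have hZ : Nat.card (center G) ≠ 2 := by rw [pg_center_eq_bot_of_simple hnc, card_bot]; omega
  have hw4 : Nat.card (zpowers w) = 4 := (Nat.card_zpowers w).trans h5
  have h8 : Nat.card (S : Subgroup G) ≠ 4 := fun e => hZ (rank_one hO hns S fun x y hx hy => by
    have := eq_of_le_of_card_ge hS (e.trans hw4.symm).le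
    rw [← orderOf_coe] at hx hy
    exact Subtype.ext (eq_of_mem_zpowers_of_mul_self (this.ge x.2) (this.ge y.2)
      (BSW.ne_one_of_orderOf_two hx) (BSW.ne_one_of_orderOf_two hy) (BSW.mul_self_of_orderOf_two hx)
      (BSW.mul_self_of_orderOf_two hy))).1
  have h9 : Nat.card (S : Subgroup G) = 8 := by
    by_contra h9
    obtain ⟨M, h10, h11, h12⟩ := (sc4_pgroup S.isPGroup' ((orderOf_coe _).symm.trans h5) h7 h8
      h9).resolve_left fun h => hZ (rank_one hO hns S h).1
    obtain ⟨g, x, h13, h14⟩ := Cfsg.Agent.S3225.result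
      (even_iff_two_dvd.2 (hz2 ▸ orderOf_dvd_natCard _)) (sm_index_ne_two hnc) S (M.map (Subgroup.subtype _))
      (map_subtype_le M) (by rwa [relIndex, subgroupOf, comap_map_eq_self_of_injective (subtype_injective _)])
      2 one_le_two (fun y h13 h14 => not_le.1 fun e => h11 ⟨y, h13⟩ (fun e => h14 ⟨_, e, rfl⟩) (by
        have := orderOf_pos y
        rw [Subtype.ext_iff, coe_mul, ← sq, OneMemClass.coe_one, ← orderOf_dvd_iff_pow_eq_one]
        interval_cases orderOf y <;> simp)) w h6 h5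
    have h15 := h12 x h13 fun e => hz1 (by
      have := congrArg Subtype.val e
      simp only [coe_mul, show (x : G) = _ from h14, conj_mul] at this
      simpa using this)
    have h16 : Nat.card C1[x] ≤ Nat.card C1[(x : G)] :=
      (card_subtype _ _).ge.trans (card_le_of_le (by
        rintro _ ⟨y, hy, rfl⟩; exact mem_c1.2 (congrArg Subtype.val (mem_c1.1 hy))))
    rw [show (x : G) = _ from h14, c1_conj, card_map_conj] at h16
    omega
  have hd := (dih2_or_comm hO hns hZ S h9).resolve_right fun e => by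
    have := card_le_of_le (le_centralizer_singleton_of_comm e h6)
    omega
  rcases key hd with h | ⟨hL, hA⟩
  · exact Or.inr (Or.inr (Or.inl h))
  refine key' _ hd hz2 ?_
  obtain ⟨c, hc⟩ := hd.exists_gen S.isPGroup'
  have h10 : w ∈ zpowers c := by_contra fun e => hz1 (hc.sq w h6 e)
  have h11 : ¬ (S : Subgroup G) ≤ zpowers c := fun e => by
    have := card_le_of_le (e.trans (zpowers_le.2 (mem_c1_symm (zpowers_le.2 (self_mem_c1 c) h10))))
    omega
  have h12 : ∀ s ∈ (S : Subgroup G), s ∉ zpowers c → s * (w * w) = w * w * s := fun s h1 h2 => by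
    rw [← mul_inv_eq_iff_eq_mul, hc.inv h1 h2 (mul_mem h10 h10), inv_eq_of_mul_eq_one_right hz]
  obtain ⟨s, h13, h14⟩ := SetLike.not_le_iff_exists.1 h11
  have h15 : (S : Subgroup G) ≤ C1[w * w] := fun x hx => by
    by_cases h : x ∈ zpowers c
    · exact zpowers_le.2 (mem_c1_symm (zpowers_le.2 (self_mem_c1 c) (mul_mem h10 h10))) h
    · exact mem_c1.2 (h12 x hx h)
  have h16 : O[C1[w * w]] = ⊥ := eq_bot_iff.2 fun y hy => by
    have h16 : ∀ s ∈ (S : Subgroup G), s ∉ zpowers c → ∀ y ∈ O[C1[w * w]], s * y * s⁻¹ = y⁻¹ :=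
      fun s h1 h2 y hy => l2_inverts hA (hL.of_equiv topEquiv.symm) hz2 (hc.orderOf_eq h1 h2)
        (fun e => h2 (e ▸ mul_mem h10 h10)) (h12 s h1 h2) (by rwa [top_inf_eq])
    have h17 := h16 (s * w) (mul_mem h13 h6) (mt (mul_mem_cancel_right h10).1 h14) y hy
    rw [← h16 s h13 h14 y hy, mul_inv_rev, ← mul_assoc, mul_left_inj, mul_assoc, mul_assoc,
      mul_right_inj, ← mul_assoc, mul_inv_eq_iff_eq_mul] at h17
    have h18 := orderOf_dvd_natCard (⟨y, mem_c1.2 h17.symm⟩ : C1[w])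
    rw [orderOf_mk, hC, hw4] at h18
    exact orderOf_eq_one_iff.1 (Nat.Coprime.eq_one_of_dvd (Nat.Coprime.pow_right 2
      (Nat.coprime_two_right.2 (odd_orderOf (odd_oc _) hy))) h18)
  have := (hd.isComplIn hz2 le_rfl ((IsSylowIn.of_sylow_top S).mono h15 le_top)).sup_eq
  rw [← this, h16, bot_sup_eq, h9]

end Cfsg.Lib.Cor
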