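import Cfsg.Statements.S3287
import Cfsg.Agent.Lib.FT.GW.Cor

set_option autoImplicit false

namespace Cfsg.Lib.Cor
open Subgroup Cfsg Cfsg.Lib Cfsg.Lib.FT Cfsg.Lib.GW

theorem s3287 {G : Type*} [Group G] [Finite G] [IsSimpleGroup G] (S : Sylow 2 G) (m : ℕ) (eS : ↥(S : Subgroup G) ≃* DihedralGroup m)
    (t : G) (ht : orderOf t = 2) (K : Subgroup G) (hlt : Subgroup.centralizer ({t} : Set G) < K)
    (hK : Cfsg.generalizedFittingSubgroup ↥K = Cfsg.fittingSubgroup ↥K) :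
    Nonempty (G ≃* ↥(alternatingGroup (Fin 5))) ∨ Nonempty (G ≃* ↥(alternatingGroup (Fin 7))) ∨
      (∃ (F : Type) (_ : Field F) (_ : Fintype F), Fintype.card F = 2 ∧ Nonempty (G ≃* Matrix.ProjectiveSpecialLinearGroup (Fin 3) F)) ∨
      (∃ (F : Type) (_ : Field F) (_ : Fintype F), Fintype.card F = 9 ∧ Nonempty (G ≃* Matrix.ProjectiveSpecialLinearGroup (Fin 2) F)) := by
  have hd := dih2_of_dihedral S eS
  have hG : ¬ IsMulCommutative G := fun h =>
    hlt.not_ge fun x _ => mem_c1.2 (h.is_comm.comm x t)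
  have hc := hd.oneClass (sm_index_ne_two hG)
  have hC : K ⊓ C[fittingOf K] ≤ fittingOf K := by
    have := inf_centralizer_fstarOf_le K
    rwa [hK] at this
  have htK := hlt.le (self_mem_c1 t)
  rcases gorenstein_walter G hG hd with hL | hL
  swap
  · exact Or.inr (Or.inl hL)
  have hA : AlmS (⊤ : Subgroup G) := ⟨hd, inferInstance, by
    rw [coe_top, centralizer_univ, pg_center_eq_bot_of_simple hG]⟩
  replace hL := hL.of_equiv topEquiv.symm
  have hO : O[K] = ⊥ := eq_bot_iff.2 fun y hy => by_contra fun hy1 => hlt.not_ge fun k hk => by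
    have h1 := l2_F1 hA hL ht (odd_oc K) (hlt.le.trans (le_normalizer_piCoreOf _ K))
    have h2 : y ∈ O[⊤ ⊓ C1[t]] := hd.le_oc ht inf_le_right (le_inf le_top h1) (odd_oc K) hy
    have h3 : k * t * k⁻¹ * y = y * (k * t * k⁻¹) := by
      have := mem_c1.1 (h1 (conj_mem_of_mem_normalizer' (le_normalizer_piCoreOf _ K hk) hy))
      calc _ = k * (t * (k⁻¹ * y * k)) * k⁻¹ := by group
        _ = _ := by rw [← this]; group
    by_contra h4
    have h5 := l2_inverts hA hL ht (((MulAut.conj k).orderOf_eq t).trans ht)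
      (fun e => h4 (mem_c1.2 (mul_inv_eq_iff_eq_mul.1 e))) (l2_ti hA hL ht h2 hy1 trivial h3) h2
    rw [MulAut.conj_apply, h3, mul_inv_cancel_right, ← mul_eq_one_iff_eq_inv] at h5
    exact hy1 (eq_one_of_odd_of_mul_self (odd_orderOf (odd_oc K) hy) h5)
  rcases hd.char_two hO hlt.ne_bot hC with ⟨z, hz, h⟩ | ⟨a, b, hf, h1, h2, h3⟩
  · exact absurd (eq_of_le_of_dvd (hlt.le.trans h) (sm_card_centralizer_of_isConj (hc t z ht hz)).dvd)
      (hlt.trans_le h).ne
  obtain ⟨T, hT⟩ := exists_isSylowIn 2 C1[t]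
  have h4 : four a b ≤ C1[t] := (((hc.isSylowIn_top ht hT).mono (hT.le.trans hlt.le) le_top).le_of_normalizes
    hf.isPGroup (h2.ge.trans inf_le_left) (hT.le.trans (hlt.le.trans h1))).trans hT.le
  have h5 : O[C1[t]] ≤ four a b := h2 ▸ le_inf ((oc_le _).trans hlt.le) (hd.le_centralizer hf.isPGroup
    (odd_oc _) ((oc_le _).trans (hlt.le.trans h1)) ht (h2.le ⟨htK, le_c1_iff.1 h4⟩) (oc_le _))
  have h6 := (hd.isComplIn ht le_rfl hT).sup_eq
  rw [show O[C1[t]] = ⊥ from eq_bot_iff.2 fun y hy => eq_one_of_odd_of_mul_self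
    (odd_orderOf (odd_oc _) hy) (hf.mul_self (h5 hy)), bot_sup_eq] at h6
  obtain ⟨k, hk⟩ := (h6 ▸ hT.isPGroup).exists_card_eq
  have h7 : Nat.card C1[t] ∣ 8 := Nat.Coprime.dvd_of_dvd_mul_left (m := 3)
    (hk ▸ Nat.Coprime.pow_left k (by norm_num)) ((card_dvd_of_le hlt.le).trans h3)
  rcases hd.small hG ht h7 with h | ⟨⟨e⟩⟩ | ⟨h, -⟩
  · exact Or.inl h
  · have : Fact (Nat.Prime 3) := ⟨by norm_num⟩
    have := Fintype.ofFinite (GaloisField 3 2)
    have h9 : Fintype.card (GaloisField 3 2) = 9 := by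
      rw [← Nat.card_eq_fintype_card, GaloisField.card 3 2 (by norm_num)]; norm_num
    obtain ⟨e'⟩ := BSW.nonempty_a6_psl _ h9
    exact Or.inr (Or.inr (Or.inr ⟨_, _, _, h9, ⟨e.trans e'⟩⟩))
  · exact Or.inr (Or.inr (Or.inl ⟨ZMod 2, _, _, ZMod.card 2, h9_simple_168 h (ZMod.card 2)⟩))

end Cfsg.Lib.Cor
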