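import Cfsg.Statements.S3307
import Cfsg.Agent.Lib.FT.GW.Cor
import Cfsg.Agent.S3305
import Cfsg.Agent.Lib.Quad.Isolated

set_option autoImplicit false

namespace Cfsg.Lib.Cor
open Subgroup Cfsg Cfsg.Lib Cfsg.Lib.FT Cfsg.Lib.GW

theorem s3307 {G : Type*} [Group G] [Finite G] (hns : ¬ Group.IsSolvable G)
    (hQ : ∀ S : Sylow 2 G, ∃ n : ℕ, Nonempty (↥(S : Subgroup G) ≃* QuaternionGroup (2 ^ (n + 1))))
    (hC : ∀ S T : Sylow 2 G, S ≠ T → IsCyclic ↥((S : Subgroup G) ⊓ (T : Subgroup G))) :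
    (∀ S : Sylow 2 G, Nonempty (↥(S : Subgroup G) ≃* QuaternionGroup 2)) ∧
    ∃ (G₁ : Subgroup G) (_ : G₁.Normal) (_ : ((Cfsg.oddCore G).subgroupOf G₁).Normal),
      Odd G₁.index ∧ Cfsg.oddCore G ≤ G₁ ∧
      ∃ (F : Type) (_ : Field F) (_ : Fintype F), (Fintype.card F % 8 = 3 ∨ Fintype.card F % 8 = 5) ∧ 3 < Fintype.card F ∧
        Nonempty (↥G₁ ⧸ (Cfsg.oddCore G).subgroupOf G₁ ≃* Matrix.SpecialLinearGroup (Fin 2) F) := by
  have hs := QuotientGroup.mk'_surjective (oddCore G)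
  have hk : Odd (Nat.card (QuotientGroup.mk' (oddCore G)).ker) := by simpa using odd_card_oddCore
  obtain ⟨S⟩ : Nonempty (Sylow 2 G) := inferInstance
  obtain ⟨n, ⟨e₀⟩⟩ := hQ S
  obtain ⟨e⟩ := sylow_equiv_map S hs hk
  obtain ⟨h3, hd, hO, hns', hi⟩ := rank_one pPrimeCore_quotient_pPrimeCore
    (not_solvable_quotient_oddCore hns) (S.mapSurjective hs) (uniq_of_equiv (e₀.symm.trans e)
      fun x y hx hy => (Quad.quaternion_invol_unique (BSW.mul_self_of_orderOf_two hx)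
        (BSW.ne_one_of_orderOf_two hx)).trans (Quad.quaternion_invol_unique
          (BSW.mul_self_of_orderOf_two hy) (BSW.ne_one_of_orderOf_two hy)).symm)
  obtain ⟨L, hA, hs, hp, hL⟩ := hd.exists_almS hO hns'
  obtain ⟨t, v, hf, hle⟩ := hd.exists_four_qs (isQuasisimple_of_isSimpleGroup (X := L) fun h => by
    have := eq_bot_of_perfect_of_isSolvable hp (Group.isSolvable_of_comm fun a b => h.1.1 a b)
    exact not_nontrivial_iff_subsingleton.2 (this ▸ inferInstance) hs.toNontrivial)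
  obtain ⟨T, hT⟩ := hf.isPGroup.exists_le_sylow
  have h4 := hd.sylow_eq_four hp hf hle hT fun T' hT' => by_contra fun h => hf.not_isCyclic (by
    have := Cfsg.Agent.S3305.result (Cfsg.Agent.S3305.result hC _) _ T' T h
    exact isCyclic_of_le (le_inf hT' hT))
  have h5 : ∀ k, 2 ^ k ∣ Nat.card ((G ⧸ oddCore G) ⧸ center (G ⧸ oddCore G)) → k ≤ 2 := fun k hk => by
    have := T.pow_dvd_card_of_pow_dvd_card hk
    rwa [h4, hf.card, show 4 = 2 ^ 2 from rfl, Nat.pow_dvd_pow_iff_le_right one_lt_two] at this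
  have h8 : ¬ 8 ∣ Nat.card L := fun h => absurd (h5 3 (h.trans L.card_subgroup_dvd_card)) (by decide)
  refine ⟨fun S => ?_, ?_⟩
  · obtain ⟨n, ⟨e₀⟩⟩ := hQ S
    obtain ⟨e⟩ := sylow_equiv_map S (QuotientGroup.mk'_surjective (oddCore G)) hk
    have h6 := card_subgroup_dvd_card (S.mapSurjective (QuotientGroup.mk'_surjective (oddCore G)) :
      Subgroup (G ⧸ oddCore G))
    rw [← Nat.card_congr (e₀.symm.trans e).toEquiv, card_eq_card_quotient_mul_card_subgroup (center (G ⧸ oddCore G)), h3, Nat.card_eq_fintype_card,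
      QuaternionGroup.card, show 4 * 2 ^ (n + 1) = 2 ^ (n + 2) * 2 by ring,
      Nat.mul_dvd_mul_iff_right two_pos] at h6
    obtain rfl : n = 0 := by have := h5 _ h6; omega
    exact ⟨e₀⟩
  rcases hL with ⟨F, _, _, h6, h7, ⟨e₁⟩⟩ | ⟨⟨e₁⟩⟩
  swap
  · exact absurd (by rw [Nat.card_congr e₁.toEquiv, card_a7]; decide) h8
  have := hA.normal
  obtain ⟨e₂⟩ := sl2_of_rank_one h3 hi hd hp h6 h7 e₁
  obtain ⟨e₃⟩ := quot_comap_equiv (oddCore G) (L.comap (QuotientGroup.mk' _))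
  refine ⟨_, inferInstance, inferInstance, ?_, ?_, F, _, _,
    mod_eight_of_not_dvd h6 (Nat.card_congr e₁.toEquiv ▸ h8), h7, ⟨e₃.trans e₂⟩⟩
  · rw [index_comap_of_surjective _ (QuotientGroup.mk'_surjective _),
      index_comap_of_surjective _ (QuotientGroup.mk'_surjective _)]
    exact (sylow_two_index_odd T).of_dvd_nat (index_dvd_of_le (h4.le.trans hle))
  · exact (QuotientGroup.ker_mk' _).ge.trans (ker_le_comap _ _)

end Cfsg.Lib.Cor
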