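import Cfsg.Agent.Lib.R1.Semi
import Cfsg.Agent.Lib.Cor.S3185

set_option autoImplicit false

namespace Cfsg.Lib.Cor
open Subgroup Cfsg Cfsg.Lib Cfsg.Lib.FT Cfsg.Lib.GW Cfsg.Lib.R1

theorem l85_of_equiv {G G' : Type*} [Group G] [Group G'] (h : L85 G) (e : G' ≃* G) : L85 G' := by
  rcases h with (⟨n, h1, F, _, _, h2, ⟨f⟩⟩ | ⟨n, h1, F, _, _, h2, ⟨f⟩⟩ | ⟨n, h1, F, _, _, h2, ⟨f⟩⟩) |
    ⟨q, h1, h2, F, _, _, h3, ⟨f⟩⟩ | h
  · exact Or.inl (Or.inl ⟨n, h1, F, _, _, h2, ⟨e.trans f⟩⟩)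
  · exact Or.inl (Or.inr (Or.inl ⟨n, h1, F, _, _, h2, ⟨e.trans f⟩⟩))
  · exact Or.inl (Or.inr (Or.inr ⟨n, h1, F, _, _, h2, ⟨e.trans f⟩⟩))
  · exact Or.inr (Or.inl ⟨q, h1, h2, F, _, _, h3, ⟨e.trans f⟩⟩)
  · exact Or.inr (Or.inr ⟨e.isSimpleGroup_congr.2 h.1, (Nat.card_congr e.toEquiv).trans h.2⟩)

theorem s3308 {G : Type*} [Group G] [Finite G] (hns : ¬ Group.IsSolvable G)
    (hC : ∀ S T : Sylow 2 G, S ≠ T → IsCyclic ↥((S : Subgroup G) ⊓ (T : Subgroup G)))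
    (R : Subgroup G) [R.Normal] (hR : Group.IsSolvable ↥R) (hRmax : ∀ N : Subgroup G, N.Normal → Group.IsSolvable ↥N → N ≤ R) :
    ∃ (G₁ : Subgroup G) (_ : G₁.Normal) (_ : (R.subgroupOf G₁).Normal), Odd G₁.index ∧ R ≤ G₁ ∧
      IsSimpleGroup (↥G₁ ⧸ R.subgroupOf G₁) ∧ ¬ IsMulCommutative (↥G₁ ⧸ R.subgroupOf G₁) ∧
      ((∃ (n : ℕ) (F : Type) (_ : Field F) (_ : Fintype F), 2 ≤ n ∧ Fintype.card F = 2 ^ n ∧
          Nonempty (↥G₁ ⧸ R.subgroupOf G₁ ≃* Matrix.ProjectiveSpecialLinearGroup (Fin 2) F)) ∨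
      (∃ (m : ℕ) (F : Type) (_ : Field F) (_ : Fintype F), 1 ≤ m ∧ Fintype.card F = 2 ^ (2 * m + 1) ∧
          Nonempty (↥G₁ ⧸ R.subgroupOf G₁ ≃* ↥(Cfsg.Lie.Sz F (2 ^ (m + 1))))) ∨
      (∃ (n : ℕ) (F : Type) (_ : Field F) (_ : Fintype F), 2 ≤ n ∧ Fintype.card F = 4 ^ n ∧
          Nonempty (↥G₁ ⧸ R.subgroupOf G₁ ≃* Cfsg.PSU 3 F (2 ^ n))) ∨
      (∃ (F : Type) (_ : Field F) (_ : Fintype F), (Fintype.card F % 8 = 3 ∨ Fintype.card F % 8 = 5) ∧ 5 < Fintype.card F ∧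
          Nonempty (↥G₁ ⧸ R.subgroupOf G₁ ≃* Matrix.ProjectiveSpecialLinearGroup (Fin 2) F)) ∨
      Cfsg.IsJ1 (↥G₁ ⧸ R.subgroupOf G₁)) := by
  have hf := QuotientGroup.mk'_surjective R
  have h1 := (cycInt_of_sylow hC).of_surjective hf
  have h2 : R1a (G ⧸ R) := fun S T hS hT a b f ha hb => by_contra fun e =>
    f.ne (ci_invol_eq (h1 S T hS hT e) hb ha f.hv f.ht)
  have h3 : solvRad (G ⧸ R) = ⊥ := by
    obtain rfl : R = solvRad G := le_antisymm (le_solvRad inferInstance hR) (hRmax _ inferInstance inferInstance)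
    exact solvRad_quotient_solvRad
  have : Nontrivial (G ⧸ R) := not_subsingleton_iff_nontrivial.1 fun e =>
    hns (isSolvable_of_normal_quotient R hR inferInstance)
  obtain ⟨L, h4, h5, h6, h7, h8⟩ := h2.odd_index h3
  obtain ⟨e⟩ := quot_comap_equiv R L
  exact ⟨L.comap (QuotientGroup.mk' R), inferInstance, inferInstance, by rwa [index_comap_of_surjective _ hf],
    (QuotientGroup.ker_mk' R).ge.trans (ker_le_comap _ _), e.isSimpleGroup_congr.2 h5,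
    fun c => h6 ⟨⟨fun a b => e.symm.injective (by rw [map_mul, map_mul, c.is_comm.comm])⟩⟩,
    l85_list (l85_of_equiv h8 e)⟩

end Cfsg.Lib.Cor
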