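import Cfsg.Agent.Lib.R1.P5

set_option autoImplicit false

namespace Cfsg.Lib.Cor
open Subgroup Cfsg Cfsg.Lib Cfsg.Lib.FT Cfsg.Lib.GW Cfsg.Lib.R1

theorem s3310 {G : Type*} [Group G] [Finite G] (hns : ¬ Group.IsSolvable G)
    (hI : ∀ S T : Sylow 2 G, S ≠ T → Cfsg.PRankLE 2 1 ↥((S : Subgroup G) ⊓ (T : Subgroup G)))
    (hnC : ∃ S T : Sylow 2 (G ⧸ Cfsg.oddCore G), S ≠ T ∧
      ¬ IsCyclic ↥((S : Subgroup (G ⧸ Cfsg.oddCore G)) ⊓ (T : Subgroup (G ⧸ Cfsg.oddCore G))))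
    (hnQ : ∀ S : Sylow 2 G, ∀ n : ℕ, IsEmpty (↥(S : Subgroup G) ≃* QuaternionGroup (2 ^ (n + 1)))) :
    (∃ (G₁ : Subgroup G) (_ : G₁.Normal) (_ : ((Cfsg.pCore 2 G ⊔ Cfsg.oddCore G).subgroupOf G₁).Normal),
      Odd G₁.index ∧ Cfsg.pCore 2 G ⊔ Cfsg.oddCore G ≤ G₁ ∧
      (∃ n : ℕ, Nonempty (↥(Cfsg.pCore 2 G) ≃* QuaternionGroup (2 ^ (n + 1)))) ∧
      ((∃ (n : ℕ) (F : Type) (_ : Field F) (_ : Fintype F), 2 ≤ n ∧ Fintype.card F = 2 ^ n ∧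
          Nonempty (↥G₁ ⧸ (Cfsg.pCore 2 G ⊔ Cfsg.oddCore G).subgroupOf G₁ ≃* Matrix.ProjectiveSpecialLinearGroup (Fin 2) F)) ∨
       (∃ (m : ℕ) (F : Type) (_ : Field F) (_ : Fintype F), 1 ≤ m ∧ Fintype.card F = 2 ^ (2 * m + 1) ∧
          Nonempty (↥G₁ ⧸ (Cfsg.pCore 2 G ⊔ Cfsg.oddCore G).subgroupOf G₁ ≃* ↥(Cfsg.Lie.Sz F (2 ^ (m + 1))))) ∨
       (∃ (n : ℕ) (F : Type) (_ : Field F) (_ : Fintype F), 2 ≤ n ∧ Fintype.card F = 4 ^ n ∧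
          Nonempty (↥G₁ ⧸ (Cfsg.pCore 2 G ⊔ Cfsg.oddCore G).subgroupOf G₁ ≃* Cfsg.PSU 3 F (2 ^ n))))) ∨
    (∃ (G₁ : Subgroup G) (_ : G₁.Normal) (_ : ((Cfsg.oddCore G).subgroupOf G₁).Normal),
      (Odd G₁.index ∨ ∃ k : ℕ, Odd k ∧ G₁.index = 2 * k) ∧ Cfsg.oddCore G ≤ G₁ ∧
      ∃ (Z : Subgroup (Matrix.SpecialLinearGroup (Fin 2) (ZMod 5) × Matrix.SpecialLinearGroup (Fin 2) (ZMod 5))) (_ : Z.Normal),
        Z = Subgroup.zpowers ((-1 : Matrix.SpecialLinearGroup (Fin 2) (ZMod 5)), (-1 : Matrix.SpecialLinearGroup (Fin 2) (ZMod 5))) ∧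
        Nonempty (↥G₁ ⧸ (Cfsg.oddCore G).subgroupOf G₁ ≃*
          (Matrix.SpecialLinearGroup (Fin 2) (ZMod 5) × Matrix.SpecialLinearGroup (Fin 2) (ZMod 5)) ⧸ Z)) := by
  obtain ⟨S, T, hne, hc⟩ := hnC
  set f := QuotientGroup.mk' (oddCore G)
  have hf : Function.Surjective f := QuotientGroup.mk'_surjective _
  have hk : f.ker = oddCore G := QuotientGroup.ker_mk' _
  have ho : ∀ H : Subgroup G, ¬ 2 ∣ Nat.card ↥(H ⊓ f.ker) := fun H =>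
    mt (·.trans (card_dvd_of_le (inf_le_right.trans hk.le))) not_dvd_card_pPrimeCore
  have hI' : ∀ S T : Subgroup G, Syl S → Syl T → S ≠ T → PRankLE 2 1 ↥(S ⊓ T) := fun S T hS hT e => by
    obtain ⟨S, rfl⟩ := hS.exists_sylow_top
    obtain ⟨T, rfl⟩ := hT.exists_sylow_top
    exact hI S T fun e1 => e (by rw [e1])
  have hS := IsSylowIn.of_sylow_top S
  have hT := IsSylowIn.of_sylow_top T
  have hne' : (S : Subgroup (G ⧸ oddCore G)) ≠ T := fun e => hne (Sylow.ext e)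
  have rk : ∀ k, PRankLE 2 k (G ⧸ oddCore G) ↔ PRankLE 2 k G := fun k => by
    rw [← pRankLE_top_iff, ← map_top_of_surjective f hf, pRankLE_map_iff_of_ker f (ho ⊤), pRankLE_top_iff]
  rcases (R1a.of_rank fun P Q hP hQ e => by
      obtain ⟨U, V, hU, hV, h1, h2⟩ := exists_sylow_lift_inf hf hP hQ e
      exact pRankLE_of_le ((pRankLE_map_iff_of_ker f (ho _)).2 (hI' U V hU hV h1)) h2).struct
    pPrimeCore_quotient_pPrimeCore (not_solvable_quotient_oddCore hns) hS hT hne' hc (fun e => by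
      obtain ⟨U, hU, h1⟩ := Syl.exists_map hS hf
      obtain ⟨U, rfl⟩ := hU.exists_sylow_top
      rcases pg_isCyclic_or_quaternion_of_unique_involution U.isPGroup' (U1.of_four U.isPGroup' fun a _ b _ F =>
        not_pRankLE_of_le_card le_top (elemAb_four F) F.card.ge (pRankLE_top_iff.2 ((rk 1).1 e))).sub with h2 | ⟨n, ⟨e⟩⟩
      · exact hc (FT.isCyclic_of_le (h1 ▸ isCyclic_of_surjective _ (f.subgroupMap_surjective U)) inf_le_left)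
      · exact (hnQ U n).false e) with ⟨h1, h2, h3, L, _, h4, h5⟩ | ⟨E, _, h1, Z, _, h2, ⟨e⟩⟩
  swap
  · obtain ⟨e1⟩ := quot_comap_equiv (oddCore G) E
    exact Or.inr ⟨E.comap f, inferInstance, inferInstance, Or.inl (by rwa [index_comap_of_surjective _ hf]),
      hk.ge.trans (ker_le_comap _ _), Z, ‹_›, h2, ⟨e1.trans e⟩⟩
  have h6 := hk.le.trans ((R1a.of_rank hI').odd_le (mt (rk 2).2 h3))
  have h7 : (pCore 2 G).map f = pCore 2 (G ⧸ oddCore G) := le_antisymm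
    (le_pCore (Normal.map inferInstance f hf) (isPGroup_pCore.map f)) fun y hy => by
      obtain ⟨U, hU, h1⟩ := Syl.exists_map hS hf
      obtain ⟨x, hx, rfl⟩ := h1.ge (Syl.le_of_normal hS isPGroup_pCore hy)
      exact mem_map_of_mem f (mem_pCore_of_syl fun V hV => hV.mem_of_map h6 (isPGroup_zpowers hU.isPGroup hx)
        ((hV.map hf).le_of_normal isPGroup_pCore hy))
  obtain ⟨e⟩ := equiv_map f (A := pCore 2 G) (eq_bot_iff.2 fun x hx => by_contra fun x1 => ho _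
    ((isPGroup_pCore.to_inf_left.card_eq_or_dvd).resolve_left fun e => x1 ((card_eq_one.1 e).le hx)))
  have h8 := (QuotientGroup.mk'_surjective (pCore 2 (G ⧸ oddCore G))).comp hf
  set φ := (QuotientGroup.mk' (pCore 2 (G ⧸ oddCore G))).comp f
  have h9 : φ.ker = pCore 2 G ⊔ oddCore G := by
    rw [← MonoidHom.comap_ker, QuotientGroup.ker_mk', ← h7, comap_map_eq, hk]
  obtain ⟨e1⟩ := quot_comap_equiv' h8 h9 L
  obtain ⟨n, ⟨e2⟩⟩ := (pg_isCyclic_or_quaternion_of_unique_involution isPGroup_pCore h2.sub).resolve_left h1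
  refine Or.inl ⟨L.comap φ, inferInstance, inferInstance, by rwa [index_comap_of_surjective _ h8],
    h9.ge.trans (ker_le_comap _ _), ⟨n, ⟨(e.trans (MulEquiv.subgroupCongr h7)).trans e2⟩⟩, ?_⟩
  rcases isBender_of_equiv h5 e1 with ⟨n, h1, F, _, _, h2, e⟩ | ⟨n, h1, F, _, _, h2, e⟩ | ⟨n, h1, F, _, _, h2, e⟩
  · exact Or.inl ⟨n, F, _, _, h1, h2, e⟩
  · exact Or.inr (Or.inl ⟨n, F, _, _, h1, h2, e⟩)
  · exact Or.inr (Or.inr ⟨n, F, _, _, h1, by rw [h2, ← pow_mul, mul_comm, pow_mul]; rfl, e⟩)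

end Cfsg.Lib.Cor
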