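import Cfsg.Statements.S3322
import Cfsg.Agent.Lib.Cor.AbC

set_option autoImplicit false

namespace Cfsg.Lib.Cor
open Subgroup Cfsg Cfsg.Lib Cfsg.Lib.FT Cfsg.Lib.GW

theorem dc_pgroup {P : Type*} [Group P] [Finite P] (hP : IsPGroup 2 P) {j : P} (hj : orderOf j = 2)
    (hC : Nat.card C1[j] = 4) (h4 : Nat.card P ≠ 4) : ∃ a : P,
      (∀ x ∉ zpowers a, ∀ y ∉ zpowers a, x * y ∈ zpowers a) ∧ ((∀ x ∉ zpowers a, x * x = 1) ∨
      ∃ z, orderOf z = 2 ∧ z ∈ center P ∧ (∀ w, orderOf w = 2 → w = z ∨ IsConj w j) ∧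
        ∀ x ∉ zpowers a, x * x ∈ zpowers z) := by
  obtain ⟨m, a, h1, h2, h3, h5, h6, h7⟩ := Cfsg.Agent.S3224.aux hP j hj hC h4
  have hj2 := BSW.mul_self_of_orderOf_two hj
  refine ⟨a, fun x hx y hy => (mul_mem_iff_of_index_two h5).2 (iff_of_false hx hy), ?_⟩
  have h8 := (normal_of_index_eq_two h5).conj_mem a (mem_zpowers a) j
  have h9 : Commute (j * a * j⁻¹) a := mem_c1.1 (zpowers_le.2 (self_mem_c1 a) h8)
  obtain ⟨z, hz⟩ : ∃ z, z = j * a * j⁻¹ * a := ⟨_, rfl⟩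
  have h10 : ∀ x ∉ zpowers a, ∃ k : ℤ, x = j * a ^ k ∧ x * x = z ^ k := fun x hx => by
    obtain ⟨k, hk⟩ := mem_zpowers_iff.1 ((mul_mem_iff_of_index_two h5).2 (iff_of_false h6 hx))
    obtain rfl : x = j * a ^ k := by rw [hk, ← mul_assoc, hj2, one_mul]
    exact ⟨k, rfl, by rw [hz, h9.mul_zpow, conj_zpow, inv_eq_of_mul_eq_one_right hj2]; group⟩
  by_cases h11 : z = 1
  · exact Or.inl fun x hx => by obtain ⟨k, -, e⟩ := h10 x hx; rw [e, h11, one_zpow]
  have h12 : z * z = 1 := by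
    rw [← sq, hz, h9.mul_pow, sq, conj_mul, h7, sq, inv_mul_cancel]
  have h13 : z ∈ zpowers a := hz ▸ mul_mem h8 (mem_zpowers a)
  have h14 : j * a * (j * a) = z := by rw [hz, inv_eq_of_mul_eq_one_right hj2, mul_assoc (j * a)]
  refine Or.inr ⟨z, BSW.orderOf_two_of_mul_self h11 h12, mem_center_iff.2 fun x => mem_c1.1 ?_,
    fun w hw => ?_, fun x hx => by obtain ⟨k, -, e⟩ := h10 x hx; exact ⟨k, e.symm⟩⟩
  · have h15 : zpowers a ≤ C1[z] := zpowers_le.2 (mem_c1_symm (zpowers_le.2 (self_mem_c1 a) h13))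
    by_cases hx : x ∈ zpowers a
    · exact h15 hx
    obtain ⟨k, rfl, -⟩ := h10 x hx
    exact mul_mem ((mul_mem_cancel_right (h15 (mem_zpowers a))).1 (mem_c1.2 (by
      rw [← h14, mul_assoc (j * a) (j * a)]))) (h15 (zpow_mem (mem_zpowers a) k))
  have hw2 := BSW.mul_self_of_orderOf_two hw
  by_cases hx : w ∈ zpowers a
  · exact Or.inl (eq_of_mem_zpowers_of_mul_self hx h13 (BSW.ne_one_of_orderOf_two hw) h11 hw2 h12)
  obtain ⟨g, e | e⟩ := two_cls h1 h3 h5 h6 hj2 h7 (fun e => by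
    have := card_le_of_le (sup_le (zpowers_le.2 (self_mem_c1 j))
      (zpowers_le.2 (mem_c1.2 (eq_mul_of_mul_inv_eq e).symm)))
    rw [pg_zpowers_sup_eq_top_of_index_prime (p := 2) h5 h6, card_top, hC, h2, pow_add] at this
    have := Nat.pow_le_pow_right two_pos h1
    omega) hx
  · exact Or.inr (isConj_iff.2 ⟨g, e⟩)
  · rw [← e, conj_mul, hw2] at h14
    exact absurd h14.symm (by simpa using h11)

variable {G : Type*} [Group G]

/-- the centralizer of `j` is a generalized dihedral group over `A`, with `j` the only involution of `A` -/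
structure DC (j : G) (A : Subgroup G) : Prop where
  hj : orderOf j = 2
  mem : j ∈ A
  le : A ≤ C1[j]
  sq : ∀ x ∈ C1[j], x ∉ A → x * x = 1
  mul : ∀ x ∈ C1[j], x ∉ A → ∀ y ∈ C1[j], y ∉ A → x * y ∈ A
  uniq : ∀ v ∈ A, orderOf v = 2 → v = j
  ne : ¬ C1[j] ≤ A

theorem inverts_of_sq {H A : Subgroup G} (hA : A ≤ H) (h : ∀ x ∈ H, x ∉ A → x * x = 1) {x a : G}
    (hx : x ∈ H) (hx' : x ∉ A) (ha : a ∈ A) : x * a * x⁻¹ = a⁻¹ := by
  rw [inv_eq_of_mul_eq_one_right (h x hx hx'), eq_inv_iff_mul_eq_one, mul_assoc (x * a),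
    h _ (mul_mem hx (hA ha)) (mt (mul_mem_cancel_right ha).1 hx')]

theorem comm_of_sq {H A : Subgroup G} (hA : A < H) (h : ∀ x ∈ H, x ∉ A → x * x = 1) {a : G}
    (ha : a ∈ A) : A ≤ C1[a] := fun b hb => by
  obtain ⟨x, hx, hx'⟩ := SetLike.exists_of_lt hA
  have := inverts_of_sq hA.le h hx hx' (mul_mem ha hb)
  rwa [← conj_mul, inverts_of_sq hA.le h hx hx' ha, inverts_of_sq hA.le h hx hx' hb, ← mul_inv_rev,
    inv_inj, ← mem_c1] at this

namespace DC
variable [Finite G] {j : G} {A : Subgroup G} (h : DC j A)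
include h

theorem map {G' : Type*} [Group G'] {f : G →* G'} (hs : Function.Surjective f)
    (hk : Odd (Nat.card f.ker)) : DC (f j) (A.map f) := by
  have h1 := c1_map_two hs hk h.hj
  refine ⟨orderOf_map_of_ker_coprime f (Nat.coprime_two_right.2 hk) h.hj, mem_map_of_mem f h.mem,
    h1 ▸ map_mono h.le, fun y hy h2 => ?_, fun y hy h2 y' hy' h3 => ?_, ?_,
    fun e => h.ne fun x hx => ?_⟩
  · obtain ⟨x, hx, rfl⟩ := h1.le hy
    rw [← map_mul, h.sq x hx fun e => h2 (mem_map_of_mem f e), map_one]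
  · obtain ⟨x, hx, rfl⟩ := h1.le hy
    obtain ⟨x', hx', rfl⟩ := h1.le hy'
    exact map_mul f x x' ▸ mem_map_of_mem f (h.mul x hx (fun e => h2 (mem_map_of_mem f e)) x' hx'
      fun e => h3 (mem_map_of_mem f e))
  · rintro _ ⟨a, ha, rfl⟩ h2
    obtain ⟨b, h3, h4, e⟩ := exists_lift_two hk h2
    rw [← e, h.uniq b (zpowers_le.2 ha h3) h4]
  · obtain ⟨a, ha, e⟩ := e (h1.ge (mem_map_of_mem f hx))
    refine (mul_mem_cancel_left (inv_mem ha)).1 (by_contra fun h2 => h2 ?_)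
    rw [eq_one_of_odd_of_mul_self (odd_orderOf hk (by simp [e])) (h.sq _ (mul_mem (inv_mem (h.le ha)) hx) h2)]
    exact one_mem A

theorem main (hO : pPrimeCore 2 G = ⊥) (hns : ¬ Group.IsSolvable G) :
    ∃ (N : Subgroup G) (_ : N.Normal), Nat.card N ∣ 2 ∧ IsPG2 (G ⧸ N) := by
  have hj2 := BSW.mul_self_of_orderOf_two h.hj
  have hj1 := BSW.ne_one_of_orderOf_two h.hj
  have hinv := fun {x a} => inverts_of_sq (x := x) (a := a) h.le h.sq
  have key : Dih2 G → ∃ (N : Subgroup G) (_ : N.Normal), Nat.card N ∣ 2 ∧ IsPG2 (G ⧸ N) := fun hd =>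
    ⟨⊥, inferInstance, by simp, (hd.isPG2 hO hns h.hj fun v hf x hx => or_iff_not_imp_left.2 fun e =>
      hinv hf.v_mem (fun e => hf.ne (h.uniq v e hf.hv)) (by_contra fun e' => e (h.sq x hx e'))).of_equiv
        QuotientGroup.quotientBot.symm⟩
  obtain ⟨x, hx, hx'⟩ := SetLike.not_le_iff_exists.1 h.ne
  have hf : Four j x := ⟨h.hj, BSW.orderOf_two_of_mul_self (fun e => hx' (e ▸ one_mem A)) (h.sq x hx hx'),
    fun e => hx' (e ▸ h.mem), mem_c1.1 hx⟩
  obtain ⟨S, hS, h1⟩ := exists_isSylowIn_ge hf.isPGroup (hf.le_c.trans inf_le_left)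
  have hc := fun a => comm_of_sq (a := a) (lt_of_le_not_ge h.le h.ne) h.sq
  obtain ⟨c, h2⟩ := pg_exists_eq_zpowers_of_isCyclic ((pg_two_group_unique_involution
    (hS.isPGroup.to_inf_left (K := A)) fun a b ha hb => Subtype.ext ((h.uniq a a.2.2
      ((orderOf_coe a).trans ha)).trans (h.uniq b b.2.2 ((orderOf_coe b).trans hb)).symm)).resolve_right (by
    rintro ⟨m, a, b, h2, -, h3, -, -, -, h4⟩
    rw [show b * a = a * b from Subtype.ext (mem_c1.1 (hc a a.2.2 b.2.2)), mul_inv_cancel_right,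
      eq_inv_iff_mul_eq_one, ← _root_.sq, ← orderOf_dvd_iff_pow_eq_one, h3] at h4
    have := (Nat.pow_dvd_pow_iff_le_right one_lt_two).1 (show 2 ^ (m + 1) ∣ 2 ^ 1 from h4)
    omega))
  have h3 : c ∈ S ⊓ A := h2.ge (mem_zpowers c)
  have h4 : j ∈ zpowers c := h2.le ⟨h1 (left_mem_four j x), h.mem⟩
  have h6 : DihGen S c := ⟨h3.1, fun y h6 h7 => h.sq y (hS.le h6) fun e => h7 (h2.le ⟨h6, e⟩),
    fun y h6 y' h7 h8 h9 => h2.le ⟨mul_mem h6 h7, h.mul y (hS.le h6) (fun e => h8 (h2.le ⟨h6, e⟩))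
      y' (hS.le h7) fun e => h9 (h2.le ⟨h7, e⟩)⟩⟩
  by_cases h5 : c * c = 1
  swap
  · exact key (dih2_of_gen (isSylowIn_of_normalizer_le hS le_top fun g hg =>
      mem_c1.2 (eq_mul_of_mul_inv_eq (eq_of_mem_zpowers_of_mul_self
        ((mem_normalizer_iff.1 (h6.normalizer_le h5 hg.2) j).1 h4) h4 (by simpa using hj1) hj1
        (by rw [conj_mul, hj2]; simp) hj2))) h6)
  have h7 : Nat.card S = 4 := by
    rw [← relIndex_mul_card h6.le, h6.relIndex (h1 (right_mem_four j x)) fun e => hx' (h2.ge e).2,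
      Nat.card_zpowers, BSW.orderOf_two_of_mul_self (by rintro rfl; simp [hj1] at h4) h5]
  obtain ⟨T, hT, h8⟩ := exists_isSylowIn_ge hS.isPGroup le_top
  by_cases h9 : Nat.card T = 4
  · exact key (dih2_of_gen (eq_of_le_of_card_ge h8 (h9.trans h7.symm).le ▸ hT) h6)
  have h10 := h8 (h1 (left_mem_four j x))
  have h11 : C1[(⟨j, h10⟩ : T)].map T.subtype = S := by
    refine hS.maximal _ ((hT.isPGroup.to_subgroup _).map _) ?_ fun y hy =>
      ⟨⟨y, h8 hy⟩, mem_c1.2 (Subtype.ext (mem_c1.1 (hS.le hy))), rfl⟩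
    rintro _ ⟨y, hy, rfl⟩
    exact mem_c1.2 (congrArg Subtype.val (mem_c1.1 hy))
  obtain ⟨a, h12, h13⟩ := dc_pgroup hT.isPGroup ((orderOf_mk j h10).trans h.hj)
    ((card_subtype _ _).symm.trans (h11 ▸ h7)) h9
  have h14 : ∀ {G' : Type _} [Group G'] [Finite G'] (f : G →* G'), Function.Surjective f →
      (∀ x ∉ zpowers a, f x * f x = 1) → Dih2 G' := fun f hs h14 => by
    have : ∀ x : T, f x ∉ zpowers (f a) → x ∉ zpowers a := by
      rintro _ h ⟨k, rfl⟩
      exact h ⟨k, by simp⟩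
    refine dih2_of_gen (map_top_of_surjective f hs ▸ hT.map f) (c := f a) ⟨mem_map_of_mem f a.2, ?_, ?_⟩
    · rintro _ ⟨y, hy, rfl⟩ h15
      exact h14 ⟨y, hy⟩ (this _ h15)
    · rintro _ ⟨y, hy, rfl⟩ _ ⟨y', hy', rfl⟩ h15 h16
      exact by_contra fun e => this (⟨y, hy⟩ * ⟨y', hy'⟩) (by simpa using e)
        (h12 _ (this _ h15) _ (this _ h16))
  rcases h13 with h13 | ⟨z, h13, h15, h16, h17⟩
  · exact key (h14 (MonoidHom.id G) Function.surjective_id fun x hx => congrArg Subtype.val (h13 x hx))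
  rw [← orderOf_coe] at h13
  have hz2 := BSW.mul_self_of_orderOf_two h13
  have h18 : ¬ IsConj (z : G) j := fun e => by
    obtain ⟨g, e⟩ := isConj_iff.1 e
    have h18 : T ≤ C1[(z : G)] := fun y hy =>
      mem_c1.2 (congrArg Subtype.val (mem_center_iff.1 h15 ⟨y, hy⟩))
    have := hS.card_dvd (hT.isPGroup.map (MulAut.conj g).toMonoidHom)
      ((map_mono h18).trans (e ▸ c1_conj g z).ge)
    rw [card_map_conj] at this
    exact h9 ((Nat.dvd_antisymm this (card_dvd_of_le h8)).trans h7)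
  obtain ⟨T, rfl⟩ := hT.exists_sylow_top
  have h19 : (z : G) ∈ center G := zstar_center hO ((_root_.sq _).trans hz2)
    (isIsolated_of_sylow T z.2 fun g hg => ((h16 ⟨_, hg⟩ ((orderOf_mk _ _).trans
      ((sm_orderOf_conj g _).trans h13))).elim (congrArg Subtype.val) fun e => absurd
        ((isConj_iff.2 ⟨g, rfl⟩).trans ((T : Subgroup G).subtype.map_isConj e)) h18))
  have h20 : (z : G) ∈ C1[j] := mem_c1.2 (mem_center_iff.1 h19 j).symm
  have hf' : Four j z := ⟨h.hj, h13, fun e => h18 (e ▸ IsConj.refl _), mem_c1.1 h20⟩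
  have h21 : ∀ y ∈ C1[j], y * y = 1 := fun y hy => by_contra fun e => e (by
    have := hinv h20 (fun e => hf'.ne (h.uniq _ e h13)) (by_contra fun e' => e (h.sq y hy e'))
    rwa [← mem_center_iff.1 h19, mul_inv_cancel_right, eq_inv_iff_mul_eq_one] at this)
  have h22 : C1[j] = four j z := (eq_of_le_of_card_ge (hf'.le_c.trans inf_le_left) (by
    rw [hS.maximal _ (fun y => ⟨1, Subtype.ext (by simpa [_root_.sq] using h21 y y.2)⟩) le_rfl hS.le, h7,
      hf'.card])).symm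
  have h23 : j ∉ center G := fun e => hns (by
    have : IsPGroup 2 G := fun y => ⟨1, by simpa [_root_.sq] using h21 y (mem_c1.2 (mem_center_iff.1 e y))⟩
    have := this.isNilpotent
    infer_instance)
  have h24 : center G = zpowers (z : G) := le_antisymm (fun y hy => by
    rcases hf'.mem_four.1 (h22.le (mem_c1.2 (mem_center_iff.1 hy j).symm)) with rfl | rfl | rfl | rfl
    exacts [one_mem _, absurd hy h23, mem_zpowers _,
      absurd ((mul_mem_cancel_right h19).1 hy) h23]) (zpowers_le.2 h19)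
  have h25 := h24 ▸ isPGroup_zpowers_two hz2
  have := h25.isNilpotent
  have h26 : ∀ y : G, (y : G ⧸ center G) = 1 ↔ y ∈ zpowers (z : G) := fun y =>
    h24 ▸ QuotientGroup.eq_one_iff y
  refine ⟨center G, inferInstance, by rw [h24, Nat.card_zpowers, h13], (h14 (QuotientGroup.mk' _)
    (QuotientGroup.mk'_surjective _) fun y hy => ?_).isPG2 (pPrimeCore_quotient_center hO h25)
    (fun _ => hns (Group.isSolvable_of_ker_le_range (center G).subtype
      (QuotientGroup.mk' (center G)) (by simp))) (j := j) (BSW.orderOf_two_of_mul_self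
      (mt (QuotientGroup.eq_one_iff j).1 h23) (by rw [← QuotientGroup.mk_mul, hj2]; rfl))
    fun _ _ y hy => Or.inl ?_⟩
  · obtain ⟨k, hk⟩ := h17 y hy
    exact (h26 _).2 ⟨k, congrArg Subtype.val hk⟩
  obtain ⟨y, rfl⟩ := QuotientGroup.mk_surjective y
  have h27 : y * j * y⁻¹ * j⁻¹ ∈ zpowers (z : G) := (h26 _).1 (by simp [mem_c1.1 hy])
  rw [mem_zpowers_two hz2, mul_inv_eq_iff_eq_mul, mul_inv_eq_iff_eq_mul (c := (z : G))] at h27
  have h28 := mem_center_iff.1 h19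
  have h29 : y * y ∈ C1[j] := mem_c1.2 (eq_mul_of_mul_inv_eq (by
    rw [show y * y * j * (y * y)⁻¹ = y * (y * j * y⁻¹) * y⁻¹ by group]
    rcases h27 with e | e
    · rw [e, one_mul, e, one_mul]
    · rw [e, ← mul_assoc, h28, mul_assoc _ y, mul_assoc (z : G), e, ← mul_assoc, hz2, one_mul]))
  refine (h26 (y * y)).2 ?_
  by_cases h30 : y ∈ C1[j]
  · exact h21 y h30 ▸ one_mem _
  have h31 : y ∈ C1[y * y] := mem_c1.2 (mul_assoc _ _ _).symm
  rcases hf'.mem_four.1 (h22.le h29) with e | e | e | e <;> rw [e] at h31 ⊢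
  exacts [one_mem _, absurd h31 h30, mem_zpowers _, absurd (mem_c1_symm ((mul_mem_cancel_right
    (mem_c1.2 (h28 y).symm)).1 (mem_c1_symm h31))) h30]

end DC

theorem lift_quot [Finite G] (h : ∃ (N : Subgroup (G ⧸ oddCore G)) (_ : N.Normal), Nat.card N ∣ 2 ∧
    IsPG2 ((G ⧸ oddCore G) ⧸ N)) : ∃ (N : Subgroup G) (_ : N.Normal),
      (Odd (Nat.card N) ∨ ∃ m : ℕ, Odd m ∧ Nat.card N = 2 * m) ∧ IsPG2 (G ⧸ N) := by
  obtain ⟨N, _, h1, h2⟩ := h
  have hs := QuotientGroup.mk'_surjective (oddCore G)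
  have h3 : Nat.card (N.comap (QuotientGroup.mk' (oddCore G))) = Nat.card N * Nat.card (oddCore G) := by
    have := (N.comap (QuotientGroup.mk' (oddCore G))).card_mul_index
    rw [index_comap_of_surjective _ hs, card_eq_card_quotient_mul_card_subgroup (oddCore G),
      ← N.card_mul_index, mul_right_comm] at this
    exact Nat.eq_of_mul_eq_mul_right (Nat.pos_of_ne_zero N.index_ne_zero_of_finite) this
  refine ⟨N.comap (QuotientGroup.mk' _), inferInstance, ?_, h2.of_equiv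
    ((QuotientGroup.quotientMulEquivOfEq (map_comap_eq_self_of_surjective hs N).symm).trans
    (QuotientGroup.quotientQuotientEquivQuotient _ _
      ((QuotientGroup.ker_mk' _).ge.trans (ker_le_comap _ _))))⟩
  rcases (Nat.dvd_prime Nat.prime_two).1 h1 with e | e <;> rw [h3, e]
  exacts [Or.inl (by simpa using odd_card_oddCore), Or.inr ⟨_, odd_card_oddCore, rfl⟩]

theorem s3322
    {G : Type*} [Group G] [Finite G] (H A : Subgroup G) (hAH : A < H) (hD : ∀ x ∈ H, x ∉ A → x ^ 2 = 1)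
    (h4 : 4 ∣ Nat.card ↥H)
    (hC : ∀ j ∈ H, orderOf j = 2 → (∀ h ∈ H, h * j = j * h) → Subgroup.centralizer ({j} : Set G) = H)
    (hns : ¬ Group.IsSolvable G) :
    ∃ (N : Subgroup G) (_ : N.Normal), (Odd (Nat.card ↥N) ∨ ∃ m : ℕ, Odd m ∧ Nat.card ↥N = 2 * m) ∧
      ∃ (F : Type) (_ : Field F) (_ : Fintype F), 3 < Fintype.card F ∧
        (Nonempty (G ⧸ N ≃* Matrix.ProjectiveSpecialLinearGroup (Fin 2) F) ∨
          Nonempty (G ⧸ N ≃* Matrix.ProjGenLinGroup (Fin 2) F)) := by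
  refine lift_quot ?_
  have hs := QuotientGroup.mk'_surjective (oddCore G)
  have hk : Odd (Nat.card (QuotientGroup.mk' (oddCore G)).ker) := by simpa using odd_card_oddCore
  have hO := pPrimeCore_quotient_pPrimeCore (p := 2) (G := G)
  replace hns := not_solvable_quotient_oddCore hns
  replace hD : ∀ x ∈ H, x ∉ A → x * x = 1 := fun x h1 h2 => (sq x).symm.trans (hD x h1 h2)
  have hinv := fun {x a} => inverts_of_sq (x := x) (a := a) hAH.le hD
  have hc := fun a => comm_of_sq (a := a) hAH hD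
  by_cases h1 : ∀ h ∈ H, h * h = 1
  · have h0 : ⊥ < H := bot_le.trans_lt hAH
    have h2 : ∀ a ∈ H, H ≤ C1[a] := fun a ha b hb => mem_c1.2 (by
      rw [← inv_eq_of_mul_eq_one_right (h1 _ (mul_mem hb ha)), mul_inv_rev,
        inv_eq_of_mul_eq_one_right (h1 a ha), inv_eq_of_mul_eq_one_right (h1 b hb)])
    obtain ⟨t, h3, h5⟩ := SetLike.exists_of_lt h0
    have ht := BSW.orderOf_two_of_mul_self h5 (h1 t h3)
    obtain ⟨v, h6, h7⟩ := SetLike.exists_of_lt (lt_of_le_of_ne (zpowers_le.2 h3) fun e => by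
      rw [← e, Nat.card_zpowers, ht] at h4; omega)
    have h : AbK ⊤ H t v := ⟨⟨ht, BSW.orderOf_two_of_mul_self (fun e => h7 (e ▸ one_mem _)) (h1 v h6),
      fun e => h7 (e ▸ mem_zpowers v), mem_c1.1 (h2 t h3 h6)⟩, h3, h6, le_top, h2, fun j hj h8 =>
        inf_le_right.trans (hC j hj h8 fun _ hh => mem_c1.1 (h2 j hj hh)).le⟩
    have h8 := h.map hs hk le_top
    rw [map_top_of_surjective _ hs] at h8
    refine h8.main hO hns (x := 1) (mul_one 1) (fun _ => Or.inl trivial) ?_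
    rintro _ ⟨a, ha, rfl⟩
    rw [one_mul, inv_one, mul_one, eq_inv_iff_mul_eq_one, ← map_mul, h1 a ha, map_one]
  push Not at h1
  obtain ⟨b, hb, hb2⟩ := h1
  replace hb : b ∈ A := by_contra fun e => hb2 (hD b hb e)
  have h1 : ∀ x ∈ H, x ∉ A → x ∉ C1[b] := fun x h1 h2 e => hb2 (by
    have := hinv h1 h2 hb
    rwa [mem_c1.1 e, mul_inv_cancel_right, eq_inv_iff_mul_eq_one] at this)
  have h2 : ∀ x ∈ H, x ∉ A → ∀ y ∈ H, y ∉ A → x * y ∈ A := fun x h2 h3 y h5 h6 =>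
    by_contra fun e => h1 _ (mul_mem h2 h5) e (mem_c1.2 (eq_mul_of_mul_inv_eq (by
      rw [show x * y * b * (x * y)⁻¹ = x * (y * b * y⁻¹) * x⁻¹ by group, hinv h5 h6 hb,
        hinv h2 h3 (inv_mem hb), inv_inv])))
  replace hC : ∀ j ∈ A, orderOf j = 2 → C1[j] = H := fun j hj h3 => hC j (hAH.le hj) h3 fun h hh => by
    by_cases e : h ∈ A
    · exact mem_c1.1 (hc j hj e)
    · rw [← mul_inv_eq_iff_eq_mul, hinv hh e hj,
        inv_eq_of_mul_eq_one_right (BSW.mul_self_of_orderOf_two h3)]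
  obtain ⟨x, hx, hx'⟩ := SetLike.exists_of_lt hAH
  have h3 : A.relIndex H = 2 := index_eq_two_iff.2 ⟨⟨x, hx⟩, fun y => by
    by_cases e : (y : G) ∈ A
    · exact Or.inr ⟨e, mt (mul_mem_cancel_left e).1 hx'⟩
    · exact Or.inl ⟨h2 y y.2 e x hx hx', e⟩⟩
  obtain ⟨t, ht, ht2⟩ := exists_mem_orderOf_eq_of_dvd (p := 2) (H := A) (by
    have := h3 ▸ relIndex_mul_card hAH.le
    omega)
  have h5 := hC t ht ht2
  by_cases h6 : ∀ v ∈ A, orderOf v = 2 → v = t
  · exact (DC.map ⟨ht2, ht, h5 ▸ hAH.le, h5 ▸ hD, h5 ▸ h2, h6, h5 ▸ hAH.not_ge⟩ hs hk).main hO hns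
  push Not at h6
  obtain ⟨v, hv, hv2, h6⟩ := h6
  have hf : Four t v := ⟨ht2, hv2, h6, mem_c1.1 (hc t ht hv)⟩
  have h7 : ∀ a ∈ A, ∀ g, g * a * g⁻¹ ∈ H → g * a * g⁻¹ ∈ A := fun a ha g h7 => by_contra fun h8 => by
    have h9 := BSW.orderOf_two_of_mul_self (fun e => h8 (by rw [e]; exact one_mem A)) (hD _ h7 h8)
    have h10 := (c1_conj g a).trans (congrArg _ (hC a ha ((sm_orderOf_conj g a).symm.trans h9)))
    have h11 : ∀ u ∈ A, orderOf u = 2 → g⁻¹ * u * g ∈ H ∧ g⁻¹ * u * g ∉ A := fun u h11 h12 =>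
      ⟨mem_map_conj.1 (h10.le (mem_c1_symm ((hC u h11 h12).ge h7))), fun e => by
        have := c1_conj g (g⁻¹ * u * g)
        rw [hC _ e (by simpa using (sm_orderOf_conj g⁻¹ u).trans h12), ← h10] at this
        simp only [mul_assoc, mul_inv_cancel, mul_one, mul_inv_cancel_left, hC u h11 h12] at this
        exact h1 _ h7 h8 (mem_c1_symm (by simpa only [mul_assoc] using this.le (hAH.le hb)))⟩
    have := h2 _ (h11 t ht ht2).1 (h11 t ht ht2).2 _ (h11 v hv hv2).1 (h11 v hv hv2).2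
    exact (h11 _ (mul_mem ht hv) hf.hw).2 (by simpa [mul_assoc] using this)
  have h8 : Odd H.index := by
    obtain ⟨S, hS, h8⟩ := exists_isSylowIn_ge hf.isPGroup (four_le_iff.2 ⟨hAH.le ht, hAH.le hv⟩)
    have h9 : IsSylowIn 2 S ⊤ := isSylowIn_of_isSylowIn_normalizer
      ⟨le_inf le_top le_normalizer, hS.isPGroup, fun R hR h9 h10 => by
        obtain ⟨z, h11, h12, h13⟩ := pg_exists_fixed_of_order_p (hS.isPGroup.to_inf_left (K := A)) hR
          (fun g hg => pg_mem_normalizer_of_conj_mem fun a ha =>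
            have := (mem_normalizer_iff.1 (h9 hg).2 a).1 ha.1
            ⟨this, h7 a ha.2 g (hS.le this)⟩)
          fun e => hf.t_ne (mem_bot.1 (e.le ⟨h8 (left_mem_four t v), ht⟩))
        exact hS.maximal R hR ((le_c1_iff.2 h13).trans (hC z h11.2 h12).le) h10⟩
    obtain ⟨S, rfl⟩ := h9.exists_sylow_top
    exact (sylow_two_index_odd S).of_dvd_nat (index_dvd_of_le hS.le)
  obtain ⟨φ, hφ⟩ := exists_sign_hom h3
  have h9 : ∀ y : H, MonoidHom.transfer φ y = 1 ↔ (y : G) ∈ A := fun y => by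
    rw [transfer_eq_pow_of_fusion φ fun y g hg => ?_, ← (hφ y).1]
    · rcases Int.units_eq_one_or (φ y) with e | e <;> simp [e, h8.neg_one_pow]
    by_cases e : (y : G) ∈ A
    · rw [(hφ y).1.2 e, (hφ _).1.2 (h7 y e g hg)]
    · rw [(hφ y).2.2 e, (hφ _).2.2 fun e' => e (by simpa [mul_assoc] using h7 _ e' g⁻¹ (by simp [mul_assoc]))]
  have h : AbK (MonoidHom.transfer φ).ker A t v := ⟨hf, ht, hv, fun a ha => (h9 ⟨a, hAH.le ha⟩).2 ha,
    hc, fun j hj h10 y hy => (h9 ⟨y, (hC j hj h10).le hy.2⟩).1 hy.1⟩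
  have := (inferInstance : (MonoidHom.transfer φ).ker.Normal).map _ hs
  refine (h.map hs hk fun y hy => pResidual_le_ker (p := 2) (fun u => ⟨1, by simp⟩) _
    (mem_pResidual_of_coprime (Nat.coprime_two_right.2 (odd_orderOf hk hy)))).main hO hns
    (x := QuotientGroup.mk' _ x) (by rw [← map_mul, hD x hx hx', map_one]) (fun g => ?_) ?_
  · obtain ⟨g, rfl⟩ := hs g
    refine (Int.units_eq_one_or (MonoidHom.transfer φ g)).imp (mem_map_of_mem _) fun e => ?_
    rw [← map_mul]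
    refine mem_map_of_mem _ ?_
    rw [MonoidHom.mem_ker, map_mul, e, (Int.units_eq_one_or _).resolve_left (mt (h9 ⟨x, hx⟩).1 hx')]
    rfl
  · rintro _ ⟨a, ha, rfl⟩
    rw [← map_inv, ← map_mul, ← map_mul, hinv hx hx' ha, map_inv]

end Cfsg.Lib.Cor
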